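import Cfsg.Agent.Lib.PSLSpec.Core
import Cfsg.Agent.S0508
import Cfsg.Agent.S3331

/-!
In the setting of `Data` the outer elements of a Sylow 2-subgroup invert the odd part of `B`, so the
group is a two-dimensional projective special linear group of odd characteristic.
-/

set_option autoImplicit false

namespace Cfsg.Agent.Lib.PSLSpec

open Subgroup

universe u

variable {N : Type u} [Group N]

namespace Data

variable [Finite N] (D : Data N)

theorem mem_cent_conj {g x : N} (hg : g * x * g⁻¹ = D.t) {y : N} :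
    y ∈ centralizer ({x} : Set N) ↔ g * y * g⁻¹ ∈ D.C := by
  rw [mem_centralizer_singleton_iff, mem_centralizer_singleton_iff, ← hg]
  constructor
  · intro h
    rw [show g * y * g⁻¹ * (g * x * g⁻¹) = g * (y * x) * g⁻¹ by group, h]; group
  · intro h
    have := congrArg (fun z => g⁻¹ * z * g) h
    simpa [mul_assoc] using this

theorem card_cent_conj {g x : N} (hg : g * x * g⁻¹ = D.t) :
    Nat.card (centralizer ({x} : Set N)) = Nat.card D.C :=
  Nat.card_congr ((MulAut.conj g).toEquiv.subtypeEquiv fun y => by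
    simpa using D.mem_cent_conj hg (y := y))

variable (hs : IsSimpleGroup N) (hna : ∃ a b : N, a * b ≠ b * a)
variable {S : Sylow 2 N} (hSC : (S : Subgroup N) ≤ D.C) (htS : D.t ∈ (S : Subgroup N))

include hSC in
theorem coset_form {x y : N} (hx : x ∈ (S : Subgroup N)) (hxB : x ∉ D.B) (hy : y ∈ D.C) :
    y ∈ D.B ∨ ∃ b ∈ D.B, y = x * b := by
  by_cases hyB : y ∈ D.B
  · exact Or.inl hyB
  · exact Or.inr ⟨x⁻¹ * y, D.mul_mem_B (inv_mem (hSC hx)) hy (fun h => hxB (by simpa using inv_mem h))
      hyB, by group⟩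

include hs hna hSC htS in
theorem outer_ord {x : N} (hx : x ∈ (S : Subgroup N)) (hxB : x ∉ D.B) : orderOf x = 2 := by
  haveI : Fact (Nat.Prime 2) := ⟨Nat.prime_two⟩
  exact orderOf_eq_prime (by rw [pow_two]; exact D.sq_eq_one hs hna hSC htS hx hxB)
    fun h => hxB (h ▸ one_mem _)

include hs hna hSC htS in
/-- An outer involution fixing a nontrivial element of odd order makes the centraliser abelian. -/
theorem fix_abelian {x b : N} (hx : x ∈ (S : Subgroup N)) (hxB : x ∉ D.B) (hb : b ∈ D.B)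
    (hbo : Odd (orderOf b)) (hb1 : b ≠ 1) (hc : x * b = b * x) :
    ∀ y ∈ D.C, ∀ z ∈ D.C, y * z = z * y := by
  obtain ⟨g, hg⟩ := D.conj_t hs hna hSC htS (D.outer_ord hs hna hSC htS hx hxB)
  have hbC : g * b * g⁻¹ ∈ D.C := (D.mem_cent_conj hg).1 (mem_centralizer_singleton_iff.2 hc.symm)
  have hbB : g * b * g⁻¹ ∈ D.B :=
    D.odd_mem hbC (by rwa [← MulAut.conj_apply, MulEquiv.orderOf_eq])
  have hCb : D.C ≤ centralizer ({b} : Set N) := by
    intro y hy
    rcases D.coset_form hSC hx hxB hy with hy' | ⟨c, hc', rfl⟩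
    · exact D.le_cent hb hy'
    · exact mul_mem (mem_centralizer_singleton_iff.2 hc) (D.le_cent hb hc')
  have hbx : centralizer ({b} : Set N) ≤ centralizer ({x} : Set N) := by
    intro y hy
    refine (D.mem_cent_conj hg).2 (D.cent_le hbB (fun h => hb1 (conj_eq_one_iff.1 h)) ?_)
    rw [mem_centralizer_singleton_iff] at hy ⊢
    rw [show g * y * g⁻¹ * (g * b * g⁻¹) = g * (y * b) * g⁻¹ by group, hy]; group
  have hxc : ∀ c ∈ D.B, c * x = x * c := fun c hc' =>
    mem_centralizer_singleton_iff.1 (hbx (hCb (D.B_le hc')))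
  intro y hy z hz
  rcases D.coset_form hSC hx hxB hy with hy' | ⟨c, hc', rfl⟩ <;>
    rcases D.coset_form hSC hx hxB hz with hz' | ⟨d, hd', rfl⟩
  · exact mul_comm_of_cyclic D.cyc hy' hz'
  · rw [← mul_assoc, hxc y hy', mul_assoc, mul_comm_of_cyclic D.cyc hy' hd', mul_assoc]
  · rw [← mul_assoc z, hxc z hz', mul_assoc, mul_comm_of_cyclic D.cyc hc' hz', mul_assoc]
  · rw [show x * c * (x * d) = x * (c * x) * d by group, hxc c hc',
      show x * d * (x * c) = x * (d * x) * c by group, hxc d hd']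
    simp only [mul_assoc, mul_comm_of_cyclic D.cyc hc' hd']

include hs hna hSC htS in
theorem no_fix {x b : N} (hx : x ∈ (S : Subgroup N)) (hxB : x ∉ D.B) (hb : b ∈ D.B)
    (hbo : Odd (orderOf b)) (hb1 : b ≠ 1) : x * b ≠ b * x := by
  classical
  intro hc
  have hcomm := D.fix_abelian hs hna hSC htS hx hxB hb hbo hb1 hc
  have hx2 := D.outer_ord hs hna hSC htS hx hxB
  have hxx : x * x = 1 := by rw [← pow_two, ← hx2, pow_orderOf_eq_one]
  have hxC := hSC hx
  -- centralisers of the elements of the centraliser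
  have hCy : ∀ y ∈ D.C, y ≠ 1 → centralizer ({y} : Set N) = D.C := by
    intro y hy hy1
    have hle : D.C ≤ centralizer ({y} : Set N) := fun z hz =>
      mem_centralizer_singleton_iff.2 (hcomm z hz y hy)
    refine le_antisymm ?_ hle
    by_cases hyy : y * y = 1
    · haveI : Fact (Nat.Prime 2) := ⟨Nat.prime_two⟩
      obtain ⟨g, hg⟩ := D.conj_t hs hna hSC htS (orderOf_eq_prime (by rw [pow_two]; exact hyy) hy1)
      exact (Subgroup.eq_of_le_of_card_ge hle (D.card_cent_conj hg).le).ge
    · intro z hz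
      rw [mem_centralizer_singleton_iff] at hz
      refine D.cent_le (D.sq_mem hy) hyy (mem_centralizer_singleton_iff.2 ?_)
      rw [← mul_assoc, hz, mul_assoc, hz, ← mul_assoc]
  have hinv : ∀ y ∈ D.C, orderOf y = 2 → y = D.t ∨ y = x ∨ y = x * D.t := by
    intro y hy hy2
    rcases D.coset_form hSC hx hxB hy with hy' | ⟨c, hc', rfl⟩
    · exact Or.inl (unique_invol D.cyc hy' D.t_mem hy2 D.t_ord)
    · have h1 : (x * c) * (x * c) = 1 := by rw [← pow_two, ← hy2, pow_orderOf_eq_one]
      have h2 : c * c = 1 := by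
        rwa [mul_assoc, ← mul_assoc c, hcomm c (D.B_le hc') x hxC, mul_assoc x, ← mul_assoc, hxx,
          one_mul] at h1
      rcases eq_or_ne c 1 with rfl | hc1
      · exact Or.inr (Or.inl (mul_one x))
      · haveI : Fact (Nat.Prime 2) := ⟨Nat.prime_two⟩
        rw [unique_invol D.cyc hc' D.t_mem (orderOf_eq_prime (by rw [pow_two]; exact h2) hc1) D.t_ord]
        exact Or.inr (Or.inr rfl)
  have hxt : x ≠ D.t := fun h => hxB (h ▸ D.t_mem)
  have hxt2 : orderOf (x * D.t) = 2 := by
    haveI : Fact (Nat.Prime 2) := ⟨Nat.prime_two⟩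
    refine orderOf_eq_prime ?_ fun h => hxt ?_
    · rw [pow_two, show x * D.t * (x * D.t) = x * (D.t * x) * D.t by group, ← D.t_comm hxC,
        ← mul_assoc, hxx, one_mul, ← pow_two, ← D.t_ord, pow_orderOf_eq_one]
    · rw [mul_eq_one_iff_eq_inv.1 h]
      exact inv_eq_of_mul_eq_one_right (by rw [← pow_two, ← D.t_ord, pow_orderOf_eq_one])
  set T : Finset N := {D.t, x, x * D.t} with hT
  have hTC : ∀ y ∈ T, y ∈ D.C ∧ orderOf y = 2 := by
    intro y hy
    simp only [hT, Finset.mem_insert, Finset.mem_singleton] at hy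
    rcases hy with rfl | rfl | rfl
    exacts [⟨D.B_le D.t_mem, D.t_ord⟩, ⟨hxC, hx2⟩, ⟨mul_mem hxC (D.B_le D.t_mem), hxt2⟩]
  have hT3 : T.card = 3 := by
    refine Finset.card_eq_three.2 ⟨_, _, _, Ne.symm hxt, ?_, ?_, hT⟩
    · exact fun h => hxB (by
        have : x = D.t * D.t⁻¹ := eq_mul_inv_of_mul_eq h.symm
        rw [this, mul_inv_cancel]; exact one_mem _)
    · exact fun h => D.t_ne (mul_eq_left.1 h.symm)
  -- the normaliser
  set M := normalizer (D.C : Set N) with hM
  have hMmem : ∀ {m : N}, m ∈ M ↔ ∀ y, y ∈ D.C ↔ m * y * m⁻¹ ∈ D.C := fun {m} => mem_normalizer_iff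
  have hCM : D.C ≤ M := le_normalizer
  have hconjM : ∀ y ∈ T, ∃ m ∈ M, m * D.t * m⁻¹ = y := by
    intro y hy
    obtain ⟨hyC, hy2⟩ := hTC y hy
    obtain ⟨g, hg⟩ := D.conj_t hs hna hSC htS hy2
    have hCyC := hCy y hyC (fun h => by rw [h, orderOf_one] at hy2; omega)
    refine ⟨g⁻¹, M.inv_mem (hMmem.2 fun z => ?_), by rw [← hg]; group⟩
    have h' := D.mem_cent_conj hg (y := z)
    rwa [hCyC] at h'
  have hindex : (D.C.subgroupOf M).index = 3 := by
    letI : MulAction M N := MulAction.compHom N ((MulAut.conj : N →* MulAut N).comp M.subtype)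
    have hsm : ∀ (m : M) (y : N), m • y = (m : N) * y * (m : N)⁻¹ := fun _ _ => rfl
    have hstab : MulAction.stabilizer M D.t = D.C.subgroupOf M := by
      ext m
      rw [MulAction.mem_stabilizer_iff, hsm, mem_subgroupOf, mem_centralizer_singleton_iff,
        mul_inv_eq_iff_eq_mul]
    have horb : MulAction.orbit M D.t = (T : Set N) := by
      ext y
      rw [MulAction.mem_orbit_iff, Finset.mem_coe]
      constructor
      · rintro ⟨m, rfl⟩
        have := hinv _ ((hMmem.1 m.2 D.t).1 (D.B_le D.t_mem))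
          (by rw [← MulAut.conj_apply, MulEquiv.orderOf_eq, D.t_ord])
        simpa [hT, hsm] using this
      · intro hy
        obtain ⟨m, hm, hmy⟩ := hconjM y hy
        exact ⟨⟨m, hm⟩, hmy⟩
    rw [← hstab, MulAction.index_stabilizer, horb, Set.ncard_coe_finset, hT3]
  have hMcard : Nat.card M = 3 * Nat.card D.C := by
    rw [← Subgroup.index_mul_card (D.C.subgroupOf M), hindex,
      Nat.card_congr (Subgroup.subgroupOfEquivOfLe hCM).toEquiv]
  have h3C : ¬ 3 ∣ Nat.card D.C := fun h => by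
    refine Nat.not_coprime_of_dvd_of_dvd (by norm_num) h ?_ D.cop
    refine dvd_trans (dvd_of_eq ?_) (Subgroup.relIndex_dvd_index_of_le hCM)
    rw [Subgroup.relIndex, hindex]
  have hnormal : ∀ m ∈ M, ∀ y ∈ D.C, m * y * m⁻¹ ∈ D.C := fun m hm y hy => (hMmem.1 hm y).1 hy
  haveI hCn : (D.C.subgroupOf M).Normal := ⟨fun y hy m => hnormal m m.2 y hy⟩
  have hcube : ∀ m ∈ M, m ^ 3 ∈ D.C := fun m hm => by
    have := (D.C.subgroupOf M).pow_index_mem (⟨m, hm⟩ : M)
    rw [hindex, mem_subgroupOf] at this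
    simpa using this
  have hout : ∀ m ∈ M, m ∉ D.C → orderOf m = 3 := by
    intro m hm hmC
    haveI : Fact (Nat.Prime 3) := ⟨Nat.prime_three⟩
    refine orderOf_eq_prime ?_ fun h => hmC (h ▸ one_mem _)
    by_contra h1
    refine hmC ?_
    rw [← hCy _ (hcube m hm) h1, mem_centralizer_singleton_iff]
    exact (Commute.self_pow m 3).eq
  -- the involutions
  have : Fintype N := Fintype.ofFinite N
  set I := Finset.univ.filter fun y : N => orderOf y = 2 with hI
  have hIcard : I.card * Nat.card D.C = Nat.card N := by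
    letI : MulAction (⊤ : Subgroup N) N :=
      MulAction.compHom N ((MulAut.conj : N →* MulAut N).comp (⊤ : Subgroup N).subtype)
    have hsm : ∀ (m : (⊤ : Subgroup N)) (y : N), m • y = (m : N) * y * (m : N)⁻¹ := fun _ _ => rfl
    have hstab : MulAction.stabilizer (⊤ : Subgroup N) D.t = D.C.subgroupOf ⊤ := by
      ext m
      rw [MulAction.mem_stabilizer_iff, hsm, mem_subgroupOf, mem_centralizer_singleton_iff,
        mul_inv_eq_iff_eq_mul]
    have horb : MulAction.orbit (⊤ : Subgroup N) D.t = (I : Set N) := by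
      ext y
      rw [MulAction.mem_orbit_iff, Finset.mem_coe, hI, Finset.mem_filter]
      constructor
      · rintro ⟨m, rfl⟩
        exact ⟨Finset.mem_univ _, by rw [hsm, ← MulAut.conj_apply, MulEquiv.orderOf_eq, D.t_ord]⟩
      · rintro ⟨-, hy⟩
        obtain ⟨g, hg⟩ := D.conj_t hs hna hSC htS hy
        exact ⟨⟨g⁻¹, mem_top _⟩, by rw [hsm, ← hg]; group⟩
    rw [← Subgroup.index_mul_card D.C]
    congr 1
    rw [← Subgroup.relIndex_top_right, Subgroup.relIndex, ← hstab, MulAction.index_stabilizer, horb,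
      Set.ncard_coe_finset]
  have hIM : I.filter (fun y => y ∈ M) = T := by
    ext y
    simp only [hI, Finset.mem_filter, Finset.mem_univ, true_and]
    refine ⟨fun ⟨hy, hyM⟩ => ?_, fun hy => ⟨(hTC y hy).2, hCM (hTC y hy).1⟩⟩
    by_cases hyC : y ∈ D.C
    · simpa [hT] using hinv y hyC hy
    · have := hout y hyM hyC
      omega
  set J := I.filter (fun y => y ∉ M) with hJ
  have hJI : 3 + J.card = I.card := by
    rw [← hT3, ← hIM, hJ, Finset.card_filter_add_card_filter_not]
  have hJmem : ∀ u ∈ J, orderOf u = 2 ∧ u * u = 1 ∧ u ∉ M := by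
    intro u hu
    obtain ⟨hu1, hu2⟩ := Finset.mem_filter.1 hu
    have := (Finset.mem_filter.1 hu1).2
    exact ⟨this, by rw [← pow_two, ← this, pow_orderOf_eq_one], hu2⟩
  set Du : N → Finset N := fun u => Finset.univ.filter fun m => m ∈ M ∧ u * m * u ∈ M with hDu
  set Iu : N → Finset N := fun u => Finset.univ.filter fun m => m ∈ M ∧ u * m * u = m⁻¹ with hIu
  have hTI : ∀ u ∈ J, ∀ m ∈ Du u, m ∈ D.C → m = 1 := by
    intro u hu m hm hmC
    obtain ⟨-, huu, huM⟩ := hJmem u hu
    obtain ⟨-, hmM, humu⟩ := Finset.mem_filter.1 hm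
    have hui : u⁻¹ = u := inv_eq_of_mul_eq_one_right huu
    have h3 : u * m ^ 3 * u ∈ D.C := by
      have := hcube _ humu
      rwa [show u * m * u = u * m * u⁻¹ by rw [hui], conj_pow, hui] at this
    by_contra hm1
    have hm3 : m ^ 3 ≠ 1 := fun h => by
      haveI : Fact (Nat.Prime 3) := ⟨Nat.prime_three⟩
      exact h3C ((orderOf_eq_prime h hm1) ▸ orderOf_dvd_natCard D.C hmC)
    refine huM (hMmem.2 fun z => ?_)
    have hz : centralizer ({u * m ^ 3 * u} : Set N) = D.C := hCy _ h3 fun h => hm3 (by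
      have := congrArg (fun z => u * z * u) h
      simpa [mul_assoc, huu, ← mul_assoc u u] using this)
    have h1 : centralizer ({m ^ 3} : Set N) = D.C := hCy _ (pow_mem hmC 3) hm3
    conv_rhs => rw [← hz]
    conv_lhs => rw [← h1]
    rw [mem_centralizer_singleton_iff, mem_centralizer_singleton_iff, hui]
    constructor
    · intro h
      rw [show u * z * u * (u * m ^ 3 * u) = u * (z * (u * u) * m ^ 3) * u by group, huu, mul_one, h,
        show u * m ^ 3 * u * (u * z * u) = u * (m ^ 3 * (u * u) * z) * u by group, huu, mul_one]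
    · intro h
      rw [show u * z * u * (u * m ^ 3 * u) = u * (z * (u * u) * m ^ 3) * u by group, huu, mul_one,
        show u * m ^ 3 * u * (u * z * u) = u * (m ^ 3 * (u * u) * z) * u by group, huu, mul_one] at h
      exact mul_left_cancel (mul_right_cancel h)
  have hDle : ∀ u ∈ J, (Du u).card ≤ 3 := by
    intro u hu
    obtain ⟨-, huu, -⟩ := hJmem u hu
    haveI : Fintype (M ⧸ D.C.subgroupOf M) := Fintype.ofFinite _
    have h3 : Fintype.card (M ⧸ D.C.subgroupOf M) = 3 := by
      rw [← Nat.card_eq_fintype_card, ← hindex, Subgroup.index]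
    rw [← h3, ← Finset.card_univ]
    refine Finset.card_le_card_of_injOn
      (fun m => if h : m ∈ M then ((⟨m, h⟩ : M) : M ⧸ D.C.subgroupOf M) else 1)
      (fun _ _ => Finset.mem_univ _) (fun m hm m' hm' h => ?_)
    obtain ⟨-, hmM, h1⟩ := Finset.mem_filter.1 hm
    obtain ⟨-, hm'M, h1'⟩ := Finset.mem_filter.1 hm'
    simp only [dif_pos hmM, dif_pos hm'M, QuotientGroup.eq, mem_subgroupOf] at h
    refine inv_mul_eq_one.1 (hTI u hu (m⁻¹ * m') (Finset.mem_filter.2 ⟨Finset.mem_univ _,
      mul_mem (inv_mem hmM) hm'M, ?_⟩) h)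
    have hui : u⁻¹ = u := inv_eq_of_mul_eq_one_right huu
    rw [show u * (m⁻¹ * m') * u = (u * m⁻¹ * u⁻¹) * (u * m' * u) by group]
    refine mul_mem ?_ h1'
    rw [show u * m⁻¹ * u⁻¹ = (u * m * u⁻¹)⁻¹ by group, hui]
    exact inv_mem h1
  have hsub : ∀ u ∈ J, Iu u ⊆ Du u := fun u _ m hm => by
    obtain ⟨-, hmM, h1⟩ := Finset.mem_filter.1 hm
    exact Finset.mem_filter.2 ⟨Finset.mem_univ _, hmM, h1 ▸ inv_mem hmM⟩
  -- the cosets
  haveI : Fintype (N ⧸ M) := Fintype.ofFinite _
  have hfib : ∀ u ∈ J,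
      (J.filter fun v : N => (QuotientGroup.mk v : N ⧸ M) = QuotientGroup.mk u).card ≤
        (Iu u).card := by
    intro u hu
    obtain ⟨-, huu, huM⟩ := hJmem u hu
    refine Finset.card_le_card_of_injOn (fun v => u * v) (fun v hv => ?_)
      (fun v _ v' _ h => mul_left_cancel h)
    obtain ⟨hv, hvu⟩ := Finset.mem_filter.1 hv
    obtain ⟨-, hvv, -⟩ := hJmem v hv
    have hmem : u * v ∈ M := by
      have := QuotientGroup.eq.1 hvu.symm
      rwa [inv_eq_of_mul_eq_one_right huu] at this
    refine Finset.mem_filter.2 ⟨Finset.mem_univ _, hmem, ?_⟩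
    rw [_root_.mul_inv_rev, inv_eq_of_mul_eq_one_right huu, inv_eq_of_mul_eq_one_right hvv,
      ← mul_assoc, huu, one_mul]
  have hMidx : I.card = 3 * Fintype.card (N ⧸ M) := by
    refine Nat.eq_of_mul_eq_mul_right (Nat.card_pos (α := D.C)) ?_
    rw [hIcard, ← Nat.card_eq_fintype_card, ← Subgroup.index, mul_right_comm, ← hMcard,
      Subgroup.card_mul_index]
  have hfull : ∀ u ∈ J, (Iu u).card = 3 := by
    intro u hu
    refine le_antisymm ((Finset.card_le_card (hsub u hu)).trans (hDle u hu)) ?_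
    by_contra hlt
    set Q := J.image (fun v : N => (QuotientGroup.mk v : N ⧸ M)) with hQ
    have hQle : Q.card + 1 ≤ Fintype.card (N ⧸ M) := by
      have hnot : ((1 : N) : N ⧸ M) ∉ Q := fun h => by
        obtain ⟨v, hv, hv'⟩ := Finset.mem_image.1 h
        have := QuotientGroup.eq.1 hv'.symm
        exact (hJmem v hv).2.2 (by simpa using this)
      rw [← Finset.card_insert_of_notMem hnot]
      exact Finset.card_le_univ _
    have hsum : J.card < 3 * Q.card := by
      rw [Finset.card_eq_sum_card_image (fun v : N => (QuotientGroup.mk v : N ⧸ M)) J, ← hQ, mul_comm,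
        ← smul_eq_mul,
        ← Finset.sum_const]
      refine Finset.sum_lt_sum (fun c hc => ?_) ⟨_, Finset.mem_image_of_mem _ hu, ?_⟩
      · obtain ⟨v, hv, rfl⟩ := Finset.mem_image.1 hc
        exact (hfib v hv).trans ((Finset.card_le_card (hsub v hv)).trans (hDle v hv))
      · have := hfib u hu
        omega
    omega
  have hcopd : ∀ m ∈ M, m ∉ D.C →
      (Nat.card (centralizer ({m} : Set N))).Coprime (Nat.card D.C) := by
    intro m hm hmC
    by_contra hco
    obtain ⟨r, hr, hr1, hr2⟩ := Nat.Prime.not_coprime_iff_dvd.1 hco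
    haveI : Fact r.Prime := ⟨hr⟩
    obtain ⟨⟨y, hy⟩, hy'⟩ := exists_prime_orderOf_dvd_card' r hr1
    rw [Subgroup.orderOf_mk] at hy'
    obtain ⟨R⟩ := (inferInstance : Nonempty (Sylow r D.C))
    have hR : ¬ r ∣ (R.1.map D.C.subtype).index := by
      rw [index_map_subtype, hr.dvd_mul]
      exact not_or.2 ⟨R.not_dvd_index, fun h2 => Nat.not_coprime_of_dvd_of_dvd hr.one_lt hr2 h2 D.cop⟩
    obtain ⟨Q, hQ⟩ := (IsPGroup.of_card (n := 1) (by
      rw [Nat.card_zpowers, hy', pow_one]) : IsPGroup r (zpowers y)).exists_le_sylow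
    obtain ⟨g, hg⟩ := MulAction.exists_smul_eq N Q (IsPGroup.toSylow (R.2.map D.C.subtype) hR)
    have hgy : g * y * g⁻¹ ∈ D.C := by
      have h1 : g * y * g⁻¹ ∈ ((IsPGroup.toSylow (R.2.map D.C.subtype) hR : Sylow r N) : Subgroup N) := by
        rw [← hg, Sylow.coe_subgroup_smul]
        exact Subgroup.smul_mem_pointwise_smul y (MulAut.conj g) _ (hQ (mem_zpowers y))
      exact map_subtype_le _ h1
    have hgm : g * m * g⁻¹ ∈ D.C := by
      rw [← hCy _ hgy (fun h => by
        rw [conj_eq_one_iff] at h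
        rw [h, orderOf_one] at hy'
        exact hr.one_lt.ne hy'), mem_centralizer_singleton_iff]
      rw [mem_centralizer_singleton_iff] at hy
      rw [show g * m * g⁻¹ * (g * y * g⁻¹) = g * (m * y) * g⁻¹ by group, ← hy]; group
    refine h3C ?_
    rw [← hout m hm hmC, ← MulEquiv.orderOf_eq (MulAut.conj g) m, MulAut.conj_apply]
    exact orderOf_dvd_natCard D.C hgm
  have h2C : 2 ∣ Nat.card D.C := D.t_ord ▸ orderOf_dvd_natCard D.C (D.B_le D.t_mem)
  have hpairs : ∀ m ∈ M, m ∉ D.C → (∃ u ∈ J, u * m * u = m⁻¹) →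
      (J.filter fun u => u * m * u = m⁻¹).card = Nat.card (centralizer ({m} : Set N)) := by
    rintro m hm hmC ⟨u, hu, hum⟩
    obtain ⟨-, huu, -⟩ := hJmem u hu
    have hui : u⁻¹ = u := inv_eq_of_mul_eq_one_right huu
    have hodd : Odd (Nat.card (centralizer ({m} : Set N))) := by
      rw [← Nat.not_even_iff_odd, even_iff_two_dvd]
      exact fun h => Nat.not_coprime_of_dvd_of_dvd one_lt_two h h2C (hcopd m hm hmC)
    rw [← Nat.card_eq_finsetCard]
    refine Nat.card_congr ⟨fun v => ⟨u * v.1, ?_⟩, fun h => ⟨u * h.1, ?_⟩, fun v => ?_, fun h => ?_⟩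
    · obtain ⟨hv, hvm⟩ := Finset.mem_filter.1 v.2
      obtain ⟨-, hvv, -⟩ := hJmem _ hv
      have hvi : v.1⁻¹ = v.1 := inv_eq_of_mul_eq_one_right hvv
      rw [mem_centralizer_singleton_iff]
      have h1 : v.1 * m = m⁻¹ * v.1 :=
        calc v.1 * m = v.1 * m * (v.1 * v.1) := by rw [hvv, mul_one]
          _ = (v.1 * m * v.1) * v.1 := by group
          _ = _ := by rw [hvm]
      have h2 : u * m⁻¹ = m * u := by
        rw [show u * m⁻¹ = (u * m * u⁻¹)⁻¹ * u by group, hui, hum, inv_inv]
      rw [mul_assoc, h1, ← mul_assoc, h2, mul_assoc]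
    · have hh := mem_centralizer_singleton_iff.1 h.2
      have hinv1 : (u * h.1) * m * (u * h.1)⁻¹ = m⁻¹ := by
        rw [show u * h.1 * m * (u * h.1)⁻¹ = u * (h.1 * m * h.1⁻¹) * u⁻¹ by group,
          mul_inv_eq_iff_eq_mul.2 hh, hui, hum]
      -- the element is an involution
      set w := u * h.1 with hw
      have hw1 : w * m * w⁻¹ ≠ m := by
        rw [hinv1]
        intro e
        have : m ^ 2 = 1 := by rw [pow_two]; nth_rw 1 [← e]; exact inv_mul_cancel m
        have h3 := orderOf_dvd_of_pow_eq_one this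
        rw [hout m hm hmC] at h3
        norm_num at h3
      have hwne : ∀ k : ℕ, Odd k → w ^ k ∉ centralizer ({m} : Set N) := by
        intro k hk hmem
        obtain ⟨j, rfl⟩ := hk
        have hsq : w * w ∈ centralizer ({m} : Set N) := by
          rw [mem_centralizer_singleton_iff, ← mul_inv_eq_iff_eq_mul,
            show w * w * m * (w * w)⁻¹ = w * (w * m * w⁻¹) * w⁻¹ by group, hinv1,
            show w * m⁻¹ * w⁻¹ = (w * m * w⁻¹)⁻¹ by group, hinv1, inv_inv]
        rw [pow_succ, pow_mul, pow_two, Subgroup.mul_mem_cancel_left _ (pow_mem hsq _),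
          mem_centralizer_singleton_iff, ← mul_inv_eq_iff_eq_mul] at hmem
        exact hw1 hmem
      have hev : Even (orderOf w) := by
        by_contra hev
        exact hwne _ (Nat.not_even_iff_odd.1 hev) (by rw [pow_orderOf_eq_one]; exact one_mem _)
      obtain ⟨o, ho⟩ := hev
      have ho0 : 0 < o := by have := orderOf_pos w; omega
      have hi2 : orderOf (w ^ o) = 2 := by
        have := orderOf_pow_orderOf_div (orderOf_pos w).ne' (show 2 ∣ orderOf w from ⟨o, by omega⟩)
        rwa [show orderOf w / 2 = o by omega] at this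
      have hoOdd : Odd o := by
        by_contra hev'
        obtain ⟨j, hj⟩ := Nat.not_odd_iff_even.1 hev'
        have hsq : w * w ∈ centralizer ({m} : Set N) := by
          rw [mem_centralizer_singleton_iff, ← mul_inv_eq_iff_eq_mul,
            show w * w * m * (w * w)⁻¹ = w * (w * m * w⁻¹) * w⁻¹ by group, hinv1,
            show w * m⁻¹ * w⁻¹ = (w * m * w⁻¹)⁻¹ by group, hinv1, inv_inv]
        have hmem : w ^ o ∈ centralizer ({m} : Set N) := by
          rw [hj, ← two_mul, pow_mul, pow_two]; exact pow_mem hsq _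
        have := orderOf_dvd_natCard _ hmem
        rw [hi2] at this
        exact Nat.not_even_iff_odd.2 hodd (even_iff_two_dvd.2 this)
      have hww : w * w = 1 := by
        have hd1 : orderOf (w * w) ∣ Nat.card (centralizer ({m} : Set N)) := by
          refine orderOf_dvd_natCard _ ?_
          rw [mem_centralizer_singleton_iff, ← mul_inv_eq_iff_eq_mul,
            show w * w * m * (w * w)⁻¹ = w * (w * m * w⁻¹) * w⁻¹ by group, hinv1,
            show w * m⁻¹ * w⁻¹ = (w * m * w⁻¹)⁻¹ by group, hinv1, inv_inv]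
        obtain ⟨g, hg⟩ := D.conj_t hs hna hSC htS hi2
        have hd2 : orderOf (w * w) ∣ Nat.card D.C := by
          rw [← D.card_cent_conj hg]
          refine orderOf_dvd_natCard _ (mem_centralizer_singleton_iff.2 ?_)
          rw [← pow_two]; exact (Commute.pow_pow_self w 2 o).eq
        exact orderOf_eq_one_iff.1
          (Nat.eq_one_of_dvd_coprimes (hcopd m hm hmC) hd1 hd2)
      haveI : Fact (Nat.Prime 2) := ⟨Nat.prime_two⟩
      have hwo : orderOf w = 2 :=
        orderOf_eq_prime (by rw [pow_two]; exact hww) fun e => hw1 (by rw [e]; group)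
      refine Finset.mem_filter.2 ⟨Finset.mem_filter.2 ⟨Finset.mem_filter.2 ⟨Finset.mem_univ _, hwo⟩,
        fun hwM => ?_⟩, ?_⟩
      · by_cases hwC : w ∈ D.C
        · have h5 : w * m * w⁻¹ * m⁻¹ ∈ D.C := by
            rw [show w * m * w⁻¹ * m⁻¹ = w * (m * w⁻¹ * m⁻¹) by group]
            exact mul_mem hwC (hnormal m hm _ (inv_mem hwC))
          rw [hinv1] at h5
          refine hmC ?_
          have h3 : m = m⁻¹ * m⁻¹ := by
            rw [← _root_.mul_inv_rev, eq_inv_iff_mul_eq_one, ← pow_two, ← pow_succ',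
              show (2 + 1) = orderOf m from (hout m hm hmC).symm, pow_orderOf_eq_one]
          rw [h3]; exact h5
        · have := hout w hwM hwC
          omega
      · rw [show w * m * w = w * m * w⁻¹ by rw [inv_eq_of_mul_eq_one_right hww]]
        exact hinv1
    · exact Subtype.ext (by show u * (u * v.1) = v.1; rw [← mul_assoc, huu, one_mul])
    · exact Subtype.ext (by show u * (u * h.1) = h.1; rw [← mul_assoc, huu, one_mul])
  -- one element of order three, inverted
  have hMne : M ≠ ⊤ := fun h => by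
    have hn : D.C.Normal := normalizer_eq_top_iff.1 h
    rcases hs.eq_bot_or_eq_top_of_normal _ hn with h' | h'
    · exact D.t_ne ((Subgroup.eq_bot_iff_forall _).1 h' _ (D.B_le D.t_mem))
    · obtain ⟨p, q, hpq⟩ := hna
      exact hpq (hcomm p (h'.symm ▸ mem_top p) q (h'.symm ▸ mem_top q))
  have hJne : J.Nonempty := by
    by_contra hJ0
    rw [Finset.not_nonempty_iff_eq_empty] at hJ0
    rw [hJ0, Finset.card_empty, add_zero] at hJI
    have h1 : Fintype.card (N ⧸ M) = 1 := by omega
    rw [← Nat.card_eq_fintype_card, ← Subgroup.index, Subgroup.index_eq_one] at h1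
    exact hMne h1
  obtain ⟨u₀, hu₀⟩ := hJne
  obtain ⟨d, hd, hd1⟩ := Finset.exists_mem_ne (s := Iu u₀) (by rw [hfull u₀ hu₀]; norm_num) 1
  obtain ⟨-, hdM, hdu⟩ := Finset.mem_filter.1 hd
  have hdC : d ∉ D.C := fun h => hd1 (hTI u₀ hu₀ d (hsub u₀ hu₀ hd) h)
  have hd3 : orderOf d = 3 := hout d hdM hdC
  -- all such elements are conjugate up to inversion
  haveI : Fact (Nat.Prime 3) := ⟨Nat.prime_three⟩
  have hMs : ∀ m ∈ M, m ∉ D.C → (∃ u ∈ J, u * m * u = m⁻¹) ∧
      Nat.card (centralizer ({m} : Set N)) = Nat.card (centralizer ({d} : Set N)) := by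
    intro m hm hmC
    have hidx : ∀ y : M, orderOf (y : N) = 3 → ¬ 3 ∣ (zpowers y).index := fun y hy h => by
      have h1 := Subgroup.index_mul_card (zpowers y)
      rw [Nat.card_zpowers, ← Subgroup.orderOf_coe, hy, hMcard] at h1
      have : (zpowers y).index = Nat.card D.C := by omega
      exact h3C (this ▸ h)
    have hp : ∀ y : M, orderOf (y : N) = 3 → IsPGroup 3 (zpowers y) := fun y hy =>
      IsPGroup.of_card (n := 1) (by rw [Nat.card_zpowers, ← Subgroup.orderOf_coe, hy, pow_one])
    obtain ⟨g, hg⟩ := MulAction.exists_smul_eq M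
      (IsPGroup.toSylow (hp ⟨d, hdM⟩ hd3) (hidx _ hd3))
      (IsPGroup.toSylow (hp ⟨m, hm⟩ (hout m hm hmC)) (hidx _ (hout m hm hmC)))
    have hmem : g * ⟨d, hdM⟩ * g⁻¹ ∈ zpowers (⟨m, hm⟩ : M) := by
      have h1 : g * ⟨d, hdM⟩ * g⁻¹ ∈ ((IsPGroup.toSylow (hp ⟨m, hm⟩ (hout m hm hmC))
          (hidx _ (hout m hm hmC)) : Sylow 3 M) : Subgroup M) := by
        rw [← hg, Sylow.coe_subgroup_smul]
        exact Subgroup.smul_mem_pointwise_smul _ (MulAut.conj g) _ (mem_zpowers _)
      exact h1
    obtain ⟨i, hi⟩ := mem_zpowers_iff.1 hmem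
    have hi' : m ^ i = (g : N) * d * (g : N)⁻¹ := by simpa using congrArg Subtype.val hi
    -- pass to the generated subgroups
    have hz : zpowers (m ^ i) = zpowers m := by
      refine Subgroup.eq_of_le_of_card_ge (zpowers_le.2 (zpow_mem (mem_zpowers m) i)) ?_
      rw [Nat.card_zpowers, Nat.card_zpowers, hi', ← MulAut.conj_apply, MulEquiv.orderOf_eq, hd3,
        hout m hm hmC]
    obtain ⟨j, hj⟩ := mem_zpowers_iff.1 (show m ∈ zpowers (m ^ i) from hz ▸ mem_zpowers m)
    constructor
    · refine ⟨(g : N) * u₀ * (g : N)⁻¹, Finset.mem_filter.2 ⟨Finset.mem_filter.2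
        ⟨Finset.mem_univ _, by rw [← MulAut.conj_apply, MulEquiv.orderOf_eq, (hJmem u₀ hu₀).1]⟩,
        fun h => (hJmem u₀ hu₀).2.2 ?_⟩, ?_⟩
      · have := mul_mem (mul_mem (M.inv_mem g.2) h) g.2
        simpa [mul_assoc] using this
      · have hu₀i : u₀⁻¹ = u₀ := inv_eq_of_mul_eq_one_right (hJmem u₀ hu₀).2.1
        rw [← hj, hi', conj_zpow]
        calc _ = (g : N) * (u₀ * d ^ j * u₀⁻¹) * (g : N)⁻¹ := by rw [hu₀i]; group
          _ = _ := by
            rw [← conj_zpow, hu₀i, hdu, inv_zpow]; group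
    · have hcm : centralizer ({m} : Set N) = centralizer ({m ^ i} : Set N) := by
        refine le_antisymm (fun z hz => ?_) fun z hz => ?_
        · exact mem_centralizer_singleton_iff.2
            ((show Commute z m from mem_centralizer_singleton_iff.1 hz).zpow_right i).eq
        · have := ((show Commute z (m ^ i) from mem_centralizer_singleton_iff.1 hz).zpow_right j).eq
          rw [hj] at this
          exact mem_centralizer_singleton_iff.2 this
      rw [hcm, hi']
      refine (Nat.card_congr ((MulAut.conj (g : N)).toEquiv.subtypeEquiv fun z => ?_)).symm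
      show z ∈ centralizer _ ↔ (g : N) * z * (g : N)⁻¹ ∈ centralizer _
      rw [mem_centralizer_singleton_iff, mem_centralizer_singleton_iff,
        show (g : N) * z * (g : N)⁻¹ * ((g : N) * d * (g : N)⁻¹) = g * (z * d) * (g : N)⁻¹ by group,
        show (g : N) * d * (g : N)⁻¹ * ((g : N) * z * (g : N)⁻¹) = g * (d * z) * (g : N)⁻¹ by group]
      exact ⟨fun h => by rw [h], fun h => mul_left_cancel (mul_right_cancel h)⟩
  set c := Nat.card (centralizer ({d} : Set N)) with hc
  -- count inverted pairs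
  set MC := Finset.univ.filter fun m : N => m ∈ M ∧ m ∉ D.C with hMC
  have hMCc : MC.card + Nat.card D.C = Nat.card M := by
    have h1 : Nat.card M = (Finset.univ.filter fun m : N => m ∈ M).card := by
      rw [Nat.card_eq_fintype_card, Fintype.card_subtype]
    have h2 : Nat.card D.C = (Finset.univ.filter fun m : N => m ∈ D.C).card := by
      rw [Nat.card_eq_fintype_card, Fintype.card_subtype]
    rw [h1, h2, hMC, ← Finset.card_union_of_disjoint]
    · congr 1
      ext m
      simp only [Finset.mem_union, Finset.mem_filter, Finset.mem_univ, true_and]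
      exact ⟨fun h => h.elim And.left fun h' => hCM h',
        fun h => (em (m ∈ D.C)).elim Or.inr fun h' => Or.inl ⟨h, h'⟩⟩
    · rw [Finset.disjoint_left]
      intro m hm hm'
      exact (Finset.mem_filter.1 hm).2.2 (Finset.mem_filter.1 hm').2
  have hcount : J.card * 2 = MC.card * c := by
    rw [← smul_eq_mul, ← Finset.sum_const, ← smul_eq_mul, ← Finset.sum_const]
    calc ∑ u ∈ J, 2 = ∑ u ∈ J, (MC.filter fun m => u * m * u = m⁻¹).card := by
          refine Finset.sum_congr rfl fun u hu => ?_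
          have he : (MC.filter fun m => u * m * u = m⁻¹) = (Iu u).erase 1 := by
            ext m
            simp only [hMC, hIu, Finset.mem_filter, Finset.mem_univ, true_and, Finset.mem_erase]
            constructor
            · rintro ⟨⟨h1, h2⟩, h3⟩
              exact ⟨fun h => h2 (h ▸ one_mem _), h1, h3⟩
            · rintro ⟨h1, h2, h3⟩
              exact ⟨⟨h2, fun hC => h1 (hTI u hu m (hsub u hu
                (Finset.mem_filter.2 ⟨Finset.mem_univ _, h2, h3⟩)) hC)⟩, h3⟩
          rw [he, Finset.card_erase_of_mem, hfull u hu]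
          refine Finset.mem_filter.2 ⟨Finset.mem_univ _, one_mem _, ?_⟩
          rw [mul_one, (hJmem u hu).2.1, inv_one]
      _ = ∑ m ∈ MC, (J.filter fun u => u * m * u = m⁻¹).card := by
          simp only [Finset.card_filter]; exact Finset.sum_comm
      _ = ∑ _m ∈ MC, c := Finset.sum_congr rfl fun m hm => by
          obtain ⟨-, h1, h2⟩ := Finset.mem_filter.1 hm
          obtain ⟨h3, h4⟩ := hMs m h1 h2
          rw [hpairs m h1 h2 h3, h4]
  have hMC2 : MC.card = 2 * Nat.card D.C := by omega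
  rw [hMC2] at hcount
  have hJc : J.card = Nat.card D.C * c := by
    have : J.card * 2 = Nat.card D.C * c * 2 := by rw [hcount]; ring
    omega
  have hN : Nat.card N = Nat.card D.C * (3 + Nat.card D.C * c) := by
    rw [← hIcard, ← hJI, hJc, mul_comm]
  have hc3 : c = 3 := by
    have h1 : c ∣ Nat.card N := Subgroup.card_subgroup_dvd_card _
    rw [hN] at h1
    have h2 := Nat.Coprime.dvd_of_dvd_mul_left (hcopd d hdM hdC) h1
    rw [Nat.dvd_add_left (Dvd.intro_left _ rfl)] at h2
    have h3 : orderOf d ∣ c := orderOf_dvd_natCard _ (mem_centralizer_singleton_iff.2 rfl)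
    rw [hd3] at h3
    exact Nat.dvd_antisymm h2 h3
  -- self-centralising subgroup of order three
  have hX : Nat.card (zpowers d) = 3 := by rw [Nat.card_zpowers, hd3]
  have hXC : centralizer (zpowers d : Set N) = zpowers d := by
    refine (Subgroup.eq_of_le_of_card_ge ?_ ?_).symm
    · intro z hz
      refine mem_centralizer_iff.2 fun w hw => ?_
      obtain ⟨i, rfl⟩ := mem_zpowers_iff.1 hz
      obtain ⟨j, rfl⟩ := mem_zpowers_iff.1 hw
      exact (Commute.zpow_zpow_self d j i).eq
    · rw [hX, ← hc3]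
      exact Nat.card_mono (Set.toFinite _)
        (centralizer_le (Set.singleton_subset_iff.2 (mem_zpowers d)))
  rw [hc3] at hN
  obtain ⟨k, hk⟩ := h2C
  have hk4 : 4 ≤ Nat.card D.C := by
    by_contra hlt
    have hbC : b ∈ D.C := D.B_le hb
    have h1 := orderOf_dvd_natCard D.C hbC
    have h2 := Nat.le_of_dvd (by omega) h1
    have h3 : orderOf b ≠ 1 := fun h => hb1 (orderOf_eq_one_iff.1 h)
    obtain ⟨j, hj⟩ := hbo
    have hk1 : k = 1 := by omega
    rw [hk, hk1] at h1
    rcases (Nat.dvd_prime Nat.prime_two).1 h1 with h | h <;> omega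
  rcases S3331.result (zpowers d) hX hXC with ⟨N₀, hN₀, -, -, hq⟩ | ⟨N₀, hN₀, -, -, hq⟩ | hq
  · rcases hs.eq_bot_or_eq_top_of_normal N₀ hN₀ with rfl | rfl
    · rw [Nat.card_congr (QuotientGroup.quotientBot (G := N)).toEquiv] at hq
      rcases hq with hq | e
      · rw [hN] at hq; nlinarith
      · obtain ⟨e⟩ := e
        have := Nat.card_congr ((QuotientGroup.quotientBot (G := N)).symm.trans e).toEquiv
        rw [hN, Nat.card_perm, Nat.card_fin, show (3 : ℕ).factorial = 6 from rfl] at this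
        nlinarith
    · have h1 : Nat.card (N ⧸ (⊤ : Subgroup N)) = 1 := Subgroup.index_top
      rcases hq with hq | e
      · omega
      · obtain ⟨e⟩ := e
        rw [Nat.card_congr e.toEquiv, Nat.card_perm, Nat.card_fin] at h1
        norm_num [Nat.factorial] at h1
  · obtain ⟨e⟩ := hq
    rcases hs.eq_bot_or_eq_top_of_normal N₀ hN₀ with rfl | rfl
    · have h60 : Nat.card N = 60 := by
        rw [Nat.card_congr ((QuotientGroup.quotientBot (G := N)).symm.trans e).toEquiv,
          nat_card_alternatingGroup, Nat.card_fin]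
        rfl
      rw [hN] at h60
      have hC4 : Nat.card D.C = 4 := by
        have : Nat.card D.C ≤ 4 := by nlinarith
        omega
      have h1 := orderOf_dvd_natCard D.C (D.B_le hb)
      rw [hC4] at h1
      obtain ⟨j, hj⟩ := hbo
      have h2 : orderOf b ≠ 1 := fun h => hb1 (orderOf_eq_one_iff.1 h)
      have h3 := Nat.le_of_dvd (by norm_num) h1
      have h5 : orderOf b = 3 := by omega
      rw [h5] at h1
      omega
    · have h1 : Nat.card (N ⧸ (⊤ : Subgroup N)) = 1 := Subgroup.index_top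
      rw [Nat.card_congr e.toEquiv, nat_card_alternatingGroup, Nat.card_fin] at h1
      norm_num [Nat.factorial] at h1
  · obtain ⟨e⟩ := hq
    have h168 : Nat.card N = 168 := by
      haveI : Fact (Nat.Prime 7) := ⟨by norm_num⟩
      have h7 := Classical.two_mul_card_PSL_two_of_odd (F := ZMod 7) (by
        rw [ZMod.card]; exact ⟨3, rfl⟩)
      rw [ZMod.card] at h7
      have h8 : Nat.card (Matrix.ProjectiveSpecialLinearGroup (Fin 2) (ZMod 7)) = 168 :=
        Nat.eq_of_mul_eq_mul_left two_pos (h7.trans (by norm_num))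
      rw [Nat.card_congr e.toEquiv]
      exact h8
    rw [hN] at h168
    have h7 : Nat.card D.C ≤ 7 := by nlinarith
    generalize Nat.card D.C = z at h168 h7 hk hk4
    interval_cases z <;> omega

include D hs hna in
/-- The group is a two-dimensional projective special linear group. -/
theorem exists_psl : ∃ (K : Type) (_ : Field K) (_ : Fintype K), Odd (Fintype.card K) ∧
    Nonempty (N ≃* Matrix.ProjectiveSpecialLinearGroup (Fin 2) K) := by
  classical
  haveI : Fact (Nat.Prime 2) := ⟨Nat.prime_two⟩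
  haveI := hs
  obtain ⟨S, hSC, htS⟩ := D.exists_sylow
  obtain ⟨x, hx, hxB⟩ := D.exists_out hSC
  have hx2 := D.outer_ord hs hna hSC htS hx hxB
  haveI := D.cyc
  set A := (S : Subgroup N) ⊓ D.B with hA
  haveI hAc : IsCyclic A := Subgroup.isCyclic_of_le (inf_le_right : A ≤ D.B)
  obtain ⟨⟨a, ha⟩, hgen⟩ := IsCyclic.exists_generator (α := A)
  have hazp : zpowers a = A := by
    refine le_antisymm (zpowers_le.2 ha) fun z hz => ?_
    obtain ⟨i, hi⟩ := mem_zpowers_iff.1 (hgen ⟨z, hz⟩)
    exact mem_zpowers_iff.2 ⟨i, by simpa using congrArg Subtype.val hi⟩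
  have hn2 : 2 ≤ orderOf a := by
    have : D.t ∈ A := ⟨htS, D.t_mem⟩
    rw [← hazp] at this
    have := Nat.le_of_dvd (orderOf_pos a) (orderOf_dvd_of_mem_zpowers this)
    rwa [D.t_ord] at this
  have haS := Subgroup.mem_inf.1 ha
  have hScard : Nat.card (S : Subgroup N) = 2 * orderOf a := by
    rw [← Nat.card_zpowers, hazp, ← Subgroup.index_mul_card (A.subgroupOf (S : Subgroup N)),
      Nat.card_congr (Subgroup.subgroupOfEquivOfLe (inf_le_left : A ≤ S)).toEquiv]
    congr 1
    rw [← Subgroup.relIndex, hA, inf_relIndex_left, D.relIndex_A hSC]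
  have hxx : x * x = 1 := D.sq_eq_one hs hna hSC htS hx hxB
  have hxa : x * a * x⁻¹ = a⁻¹ := by
    have h1 : (x * a) * (x * a) = 1 := D.sq_eq_one hs hna hSC htS (mul_mem hx haS.1)
      fun h => hxB ((D.B.mul_mem_cancel_right haS.2).1 h)
    rw [inv_eq_of_mul_eq_one_right hxx, eq_inv_iff_mul_eq_one]
    calc x * a * x * a = x * a * (x * a) := by group
      _ = 1 := h1
  have hdih := Involution.iso_dihedral (K := (S : Subgroup N)) haS.1 hx rfl hxx
    (fun h => hxB (zpowers_le.2 haS.2 h)) hxa hScard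
  set O := (Cfsg.oddCore (centralizer ({D.t} : Set N))).map (centralizer ({D.t} : Set N)).subtype
    with hO
  have hOodd : Odd (Nat.card O) := by
    rw [hO, Nat.card_congr (Subgroup.equivMapOfInjective _ _ (subtype_injective _)).symm.toEquiv]
    exact Nat.coprime_two_right.1 (Cfsg.Agent.Lib.Hall.coprime_card_pPrimeCore 2)
  have hOB : ∀ y ∈ O, y ∈ D.B ∧ Odd (orderOf y) := fun y hy =>
    have ho := hOodd.of_dvd_nat (orderOf_dvd_natCard O hy)
    ⟨D.odd_mem (map_subtype_le _ hy) ho, ho⟩
  have hinv : ∀ s ∈ (S : Subgroup N), s ∉ D.B → ∀ y ∈ O, s * y * s⁻¹ = y⁻¹ := by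
    intro s hs' hsB y hy
    obtain ⟨hyB, hyo⟩ := hOB y hy
    have hss := D.sq_eq_one hs hna hSC htS hs' hsB
    have hsi : s⁻¹ = s := inv_eq_of_mul_eq_one_right hss
    have hconj := D.conj_C (hSC hs') hyB
    by_contra hne
    set z := s * y * s⁻¹ * y with hz
    have hzo : Odd (orderOf z) := by
      have hc : Commute (s * y * s⁻¹) y := mul_comm_of_cyclic D.cyc hconj hyB
      refine hyo.of_dvd_nat (orderOf_dvd_of_pow_eq_one ?_)
      rw [hz, hc.mul_pow, conj_pow, pow_orderOf_eq_one]; group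
    refine D.no_fix hs hna hSC htS hs' hsB (D.B.mul_mem hconj hyB) hzo
      (fun h => hne (mul_eq_one_iff_eq_inv.1 h)) ?_
    show s * z = z * s
    have hc : (s * y * s⁻¹) * y = y * (s * y * s⁻¹) := mul_comm_of_cyclic D.cyc hconj hyB
    rw [hz]
    calc s * (s * y * s⁻¹ * y) = (s * s) * y * s⁻¹ * y := by group
      _ = y * s * y := by rw [hss, hsi, one_mul]
      _ = y * (s * y * s⁻¹) * s := by group
      _ = _ := by rw [← hc]
  refine S0508.result S (orderOf a) hn2 hdih D.t D.t_ord htS (fun s hs' => D.t_comm (hSC hs')) O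
    hO ?_ ?_ ?_
  · intro hne
    have hcent : (S : Subgroup N) ⊓ centralizer (O : Set N) = A := by
      refine le_antisymm (fun s hs' => ?_) fun s hs' => ?_
      · obtain ⟨hs1, hs2⟩ := Subgroup.mem_inf.1 hs'
        refine ⟨hs1, by_contra fun hsB => ?_⟩
        obtain ⟨y, hy, hy1⟩ := (O.bot_or_exists_ne_one).resolve_left hne
        have h1 := mem_centralizer_iff.1 hs2 y hy
        exact D.no_fix hs hna hSC htS hs1 hsB (hOB y hy).1 (hOB y hy).2 hy1 h1.symm
      · exact ⟨hs'.1, mem_centralizer_iff.2 fun y hy =>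
          mul_comm_of_cyclic D.cyc (hOB y hy).1 hs'.2⟩
    rw [hcent]
    exact ⟨hAc, by rw [hA, inf_relIndex_left, D.relIndex_A hSC]⟩
  · intro s hs' hsO
    refine hinv s hs' fun hsB => hsO (mem_centralizer_iff.2 fun y hy => ?_)
    exact mul_comm_of_cyclic D.cyc (hOB y hy).1 hsB
  · intro Y hYO hY1 v hv
    obtain ⟨y, hy, hy1⟩ := (Y.bot_or_exists_ne_one).resolve_left hY1
    have hcentB : ∀ z ∈ Y, z ≠ 1 → centralizer ({z} : Set N) = D.B := by
      intro z hz hz1
      obtain ⟨hzB, hzo⟩ := hOB z (hYO hz)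
      refine le_antisymm (fun w hw => ?_) (D.le_cent hzB)
      rcases D.coset_form hSC hx hxB (D.cent_le hzB hz1 hw) with h | ⟨e, he, rfl⟩
      · exact h
      · have hxc : x ∈ centralizer ({z} : Set N) :=
          (Subgroup.mul_mem_cancel_right _ (D.le_cent hzB he)).1 hw
        exact absurd (mem_centralizer_singleton_iff.1 hxc) (D.no_fix hs hna hSC htS hx hxB hzB hzo hz1)
    have hvy : v * y * v⁻¹ ∈ Y := (mem_normalizer_iff.1 hv y).1 hy
    have h1 : v * D.t * v⁻¹ ∈ D.B := by
      rw [← hcentB _ hvy (fun h => hy1 (conj_eq_one_iff.1 h)), mem_centralizer_singleton_iff]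
      have := mem_centralizer_singleton_iff.1 ((hcentB y hy hy1).symm ▸ D.t_mem :
        D.t ∈ centralizer ({y} : Set N))
      rw [show v * D.t * v⁻¹ * (v * y * v⁻¹) = v * (D.t * y) * v⁻¹ by group, this]; group
    exact mem_centralizer_singleton_iff.2 (mul_inv_eq_iff_eq_mul.1
      (unique_invol D.cyc h1 D.t_mem (by rw [← MulAut.conj_apply, MulEquiv.orderOf_eq, D.t_ord])
        D.t_ord))

end Data

end Cfsg.Agent.Lib.PSLSpec
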