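import Cfsg.Agent.Lib.PSLSpec.Odd
import Cfsg.Agent.Lib.PSLTwo.Tools
import Cfsg.Agent.S1230

/-!
Recognition of two-dimensional projective special linear groups by order and element orders.
-/

set_option autoImplicit false

namespace Cfsg.Agent.Lib.PSLSpec

open Subgroup

universe u v

variable {G : Type u} [Group G] [Finite G]

theorem even_case {q a : ℕ} (ha : 2 ≤ a) (hq : q = 2 ^ a) (hcard : Nat.card G = q * (q ^ 2 - 1))
    (hord : ∀ g : G, orderOf g ∣ 2 ∨ orderOf g ∣ q - 1 ∨ orderOf g ∣ q + 1) :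
    ∃ (K : Type) (_ : Field K) (_ : Fintype K), Fintype.card K = q ∧
      Nonempty (G ≃* Matrix.ProjectiveSpecialLinearGroup (Fin 2) K) := by
  classical
  haveI : Fact (Nat.Prime 2) := ⟨Nat.prime_two⟩
  have hq2 : 2 ∣ q := hq ▸ dvd_pow_self 2 (by omega)
  have hq4 : 4 ≤ q := hq ▸ le_trans (by norm_num) (Nat.pow_le_pow_right two_pos ha)
  have hoddq : ¬ 2 ∣ q ^ 2 - 1 := by
    have h1 : 2 ∣ q ^ 2 := hq2.trans (dvd_pow_self q two_ne_zero)
    have h2 : 0 < q ^ 2 := pow_pos (by omega) 2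
    omega
  have hord2 : ∀ g : G, 2 ∣ orderOf g → orderOf g = 2 := by
    intro g hg
    rcases hord g with h | h | h
    · exact Nat.dvd_antisymm h hg
    · exact absurd (hg.trans h) (by omega)
    · exact absurd (hg.trans h) (by omega)
  have hp : ∀ g : G, ∀ j : ℕ, orderOf g = 2 ^ j → g ^ 2 = 1 := by
    intro g j hj
    rcases eq_or_ne j 0 with rfl | hj0
    · have h1 : g = 1 := orderOf_eq_one_iff.1 (by simpa using hj)
      rw [h1, one_pow]
    · rw [← hord2 g (hj ▸ dvd_pow_self 2 hj0), pow_orderOf_eq_one]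
  have hC : ∀ t : G, orderOf t = 2 → IsPGroup 2 (centralizer ({t} : Set G)) := by
    intro t ht c
    refine ⟨1, Subtype.ext ?_⟩
    rw [pow_one, Subgroup.coe_pow, Subgroup.coe_one]
    have h12 : orderOf (c : G) ∣ 2 := by
      by_contra hno
      obtain ⟨s, hs, hsd, hs2⟩ : ∃ s : ℕ, s.Prime ∧ s ∣ orderOf (c : G) ∧ s ≠ 2 := by
        by_contra! hall
        obtain ⟨j, hj⟩ : ∃ j, orderOf (c : G) = 2 ^ j := ⟨_,
          Nat.eq_prime_pow_of_unique_prime_dvd (orderOf_pos _).ne' fun hs hsd => hall _ hs hsd⟩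
        exact hno (orderOf_dvd_of_pow_eq_one (hp _ j hj))
      have hc' : Commute t ((c : G) ^ (orderOf (c : G) / s)) :=
        (show Commute (c : G) t from mem_centralizer_singleton_iff.1 c.2).symm.pow_right _
      have hcs : orderOf ((c : G) ^ (orderOf (c : G) / s)) = s :=
        orderOf_pow_orderOf_div (orderOf_pos _).ne' hsd
      have h := hc'.orderOf_mul_eq_mul_orderOf_of_coprime
        (by rw [ht, hcs]; exact (Nat.coprime_primes Nat.prime_two hs).2 hs2.symm)
      rw [ht, hcs] at h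
      have h2 := hord2 _ (h ▸ dvd_mul_right 2 s)
      rw [h] at h2
      have := hs.two_le
      omega
    exact orderOf_dvd_iff_pow_eq_one.1 h12
  obtain ⟨T⟩ := (inferInstance : Nonempty (Sylow 2 G))
  have hpow : ∀ K : Subgroup G, IsPGroup 2 K → Nat.card K ∣ q := by
    intro K hK
    obtain ⟨k, hk⟩ := hK.exists_card_eq
    refine Nat.Coprime.dvd_of_dvd_mul_right ?_ (hcard ▸ card_subgroup_dvd_card K)
    rw [hk]
    exact Nat.Coprime.pow_left _ (Nat.prime_two.coprime_iff_not_dvd.2 hoddq)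
  have hT : Nat.card T = q := by
    refine Nat.dvd_antisymm (hpow _ T.2) (Nat.Coprime.dvd_of_dvd_mul_right ?_
      (((T : Subgroup G).card_mul_index.trans hcard).symm ▸ dvd_mul_right q _))
    rw [hq]
    exact Nat.Coprime.pow_left _ (Nat.prime_two.coprime_iff_not_dvd.2 T.not_dvd_index)
  have hnc : ¬ IsCyclic (T : Subgroup G) := by
    intro hc
    obtain ⟨g, hg⟩ := IsCyclic.exists_ofOrder_eq_natCard (α := (T : Subgroup G))
    have h1 : orderOf (g : G) = q := by rw [Subgroup.orderOf_coe, hg, hT]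
    have h2 := hord2 _ (h1 ▸ hq2)
    omega
  have hnn : ¬ (T : Subgroup G).Normal := by
    intro hN
    haveI : Nontrivial T := (T : Subgroup G).nontrivial_iff_ne_bot.2 fun h => by
      rw [show Nat.card T = Nat.card (T : Subgroup G) from rfl, h, Subgroup.card_bot] at hT
      omega
    obtain ⟨t, ht⟩ := exists_prime_orderOf_dvd_card' (G := T) 2 (hT.symm ▸ hq2)
    have ht2 : orderOf (t : G) = 2 := by rw [Subgroup.orderOf_coe, ht]
    have ht1 : (t : G) ≠ 1 := fun h => by rw [h, orderOf_one] at ht2; omega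
    have horb : (centralizer ({(t : G)} : Set G)).index ≤ q - 1 := by
      letI : MulAction (⊤ : Subgroup G) G :=
        MulAction.compHom G ((MulAut.conj : G →* MulAut G).comp (⊤ : Subgroup G).subtype)
      have hst : MulAction.stabilizer (⊤ : Subgroup G) (t : G) =
          (centralizer ({(t : G)} : Set G)).subgroupOf ⊤ := by
        ext g
        rw [MulAction.mem_stabilizer_iff, mem_subgroupOf, mem_centralizer_singleton_iff,
          ← mul_inv_eq_iff_eq_mul]
        rfl
      rw [← relIndex_top_right, Subgroup.relIndex, ← hst, MulAction.index_stabilizer]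
      refine le_trans (Set.ncard_le_ncard (t := ((T : Subgroup G) : Set G) \ {1}) ?_) (le_of_eq ?_)
      · rintro _ ⟨g, rfl⟩
        exact ⟨hN.conj_mem _ t.2 (g : G), fun e => ht1 (conj_eq_one_iff.1 e)⟩
      · rw [Set.ncard_diff_singleton_of_mem (one_mem (T : Subgroup G)), ← Nat.card_coe_set_eq]
        exact congrArg (· - 1) hT
    have h1 := (centralizer ({(t : G)} : Set G)).card_mul_index
    have h2 := Nat.le_of_dvd (by omega) (hpow _ (hC _ ht2))
    have h3 := Nat.le_of_mul_le_mul_left ((hcard.symm.trans h1.symm).le.trans (Nat.mul_le_mul h2 horb))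
      (by omega)
    have h4 : q * q ≤ q ^ 2 := (sq q).ge
    have h5 : 4 * q ≤ q * q := Nat.mul_le_mul_right q hq4
    omega
  obtain ⟨K, fK, iK, hK, hiso⟩ := S1230.result T hnc hnn fun t ht => by
    have hsq : ∀ c : centralizer ({t} : Set G), (c : G) ^ 2 = 1 := fun c => by
      obtain ⟨j, hj⟩ := IsPGroup.iff_orderOf.1 (hC t ht) c
      exact hp _ j (by rw [Subgroup.orderOf_coe, hj])
    refine ⟨⟨⟨fun x y => ?_⟩⟩, fun c hc => hsq ⟨c, hc⟩⟩
    have hinv : ∀ c : centralizer ({t} : Set G), c⁻¹ = c := fun c =>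
      inv_eq_of_mul_eq_one_right (Subtype.ext (by
        rw [Subgroup.coe_mul, ← pow_two, hsq c, Subgroup.coe_one]))
    rw [← hinv (x * y), _root_.mul_inv_rev, hinv, hinv]
  exact ⟨K, fK, iK, hK.trans hT, hiso⟩

theorem odd_case {p q e : ℕ} (hp : p.Prime) (hqp : ∃ a : ℕ, 0 < a ∧ q = p ^ a) (hq : q = 2 * e + 1)
    (he : 2 ≤ e) (hcard : Nat.card G = q * (2 * e * (e + 1)))
    (hord : ∀ g : G, orderOf g ∣ p ∨ orderOf g ∣ e ∨ orderOf g ∣ e + 1)
    (hx : ∃ g : G, orderOf g = e) (hy : ∃ g : G, orderOf g = e + 1) :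
    ∃ (K : Type) (_ : Field K) (_ : Fintype K), Fintype.card K = q ∧
      Nonempty (G ≃* Matrix.ProjectiveSpecialLinearGroup (Fin 2) K) := by
  obtain ⟨a, ha, hqa⟩ := hqp
  have hpq : p ∣ q := hqa ▸ dvd_pow_self p ha.ne'
  have hp2 : p ≠ 2 := fun h => by subst h; omega
  have hpe : ¬ p ∣ e := fun h => by
    rw [hq] at hpq
    exact hp.one_lt.ne' (Nat.dvd_one.1 ((Nat.dvd_add_right (h.mul_left 2)).1 hpq))
  have hpe' : ¬ p ∣ e + 1 := fun h => by
    rw [hq] at hpq
    have h2 : p ∣ 2 * e + 1 + 1 := by rw [show 2 * e + 1 + 1 = 2 * (e + 1) by ring]; exact h.mul_left 2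
    exact hp.one_lt.ne' (Nat.dvd_one.1 ((Nat.dvd_add_right hpq).1 h2))
  rcases Nat.even_or_odd e with hev | hev
  · have H : OddHyp G p q e (e + 1) := ⟨hp, ⟨a, ha, hqa⟩, hp2, hev, hev.add_one, by omega,
      Nat.coprime_self_add_right.2 (Nat.coprime_one_right e), hpe, hpe', by omega, by omega, hord,
      hx, hy, hcard⟩
    exact H.exists_psl
  · have H : OddHyp G p q (e + 1) e := ⟨hp, ⟨a, ha, hqa⟩, hp2, hev.add_one, hev, he,
      (Nat.coprime_self_add_right.2 (Nat.coprime_one_right e)).symm, hpe', hpe, by omega, by omega,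
      fun g => (hord g).imp_right Or.symm, hy, hx, by rw [hcard]; ring⟩
    exact H.exists_psl

/-- Order and element orders determine the group. -/
theorem recog {F : Type v} [Field F] [Fintype F] (hF : 3 < Fintype.card F)
    (hrange : Set.range (orderOf : G → ℕ) =
      Set.range (orderOf : Matrix.ProjectiveSpecialLinearGroup (Fin 2) F → ℕ))
    (hcard : Nat.card G = Nat.card (Matrix.ProjectiveSpecialLinearGroup (Fin 2) F)) :
    Nonempty (G ≃* Matrix.ProjectiveSpecialLinearGroup (Fin 2) F) := by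
  obtain ⟨p, hcp⟩ := CharP.exists F
  obtain ⟨⟨a, ha⟩, hp, hFa⟩ := FiniteField.card F p
  change Fintype.card F = p ^ a at hFa
  haveI := Fact.mk hp
  rw [S2475.result p (by omega : 4 ≤ Fintype.card F)] at hrange
  set q := Fintype.card F with hq
  suffices h : ∃ (K : Type) (_ : Field K) (_ : Fintype K), Fintype.card K = q ∧
      Nonempty (G ≃* Matrix.ProjectiveSpecialLinearGroup (Fin 2) K) by
    obtain ⟨K, fK, iK, hK, ⟨e⟩⟩ := h
    obtain ⟨e'⟩ := PSLTwo.psl_congr_card (K := K) (K' := F) (hK.trans hq)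
    exact ⟨e.trans e'⟩
  have hmem : ∀ g : G, orderOf g ∣ p ∨ orderOf g ∣ (q - 1) / Nat.gcd 2 (q - 1) ∨
      orderOf g ∣ (q + 1) / Nat.gcd 2 (q - 1) := fun g => by
    have : orderOf g ∈ Set.range (orderOf : G → ℕ) := ⟨g, rfl⟩
    rwa [hrange] at this
  rcases eq_or_ne p 2 with rfl | hp2
  · have hev : Even q := by rw [hFa]; exact (Nat.even_pow' ha.ne').2 even_two
    have h1 : Nat.gcd 2 (q - 1) = 1 := by
      rw [← Nat.coprime_iff_gcd_eq_one, Nat.coprime_two_left, Nat.odd_iff]
      obtain ⟨k, hk⟩ := hev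
      omega
    rw [h1] at hmem
    refine even_case (a := a) ?_ hFa (by rw [hcard]; exact Classical.card_PSL_two_of_even (hq ▸ hev))
      fun g => by simpa using hmem g
    by_contra h
    have : a = 1 := by omega
    rw [this, pow_one] at hFa
    omega
  · have hodd : Odd q := by rw [hFa]; exact (hp.odd_of_ne_two hp2).pow
    obtain ⟨e, he⟩ := id hodd
    have h2 : Nat.gcd 2 (q - 1) = 2 := Nat.gcd_eq_left (by omega)
    have e1 : (q - 1) / 2 = e := by omega
    have e2 : (q + 1) / 2 = e + 1 := by omega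
    rw [h2, e1, e2] at hmem
    rw [h2, e1, e2] at hrange
    refine odd_case hp ⟨a, ha, hFa⟩ he (by omega) ?_ hmem (hrange.ge (Or.inr (Or.inl dvd_rfl)))
      (hrange.ge (Or.inr (Or.inr dvd_rfl)))
    have h := Classical.two_mul_card_PSL_two_of_odd (F := F) (hq ▸ hodd)
    rw [← hcard, ← hq, show q ^ 2 - 1 = 2 * (2 * e * (e + 1)) by
      rw [he, show (2 * e + 1) ^ 2 = 2 * (2 * e * (e + 1)) + 1 by ring, Nat.add_sub_cancel],
      mul_left_comm] at h
    exact Nat.eq_of_mul_eq_mul_left two_pos h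

end Cfsg.Agent.Lib.PSLSpec
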