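import Cfsg.Agent.Lib.PSLSpec.Invert
import Cfsg.Agent.Lib.Recog.MinNormal
import Cfsg.Agent.Lib.Involution.ZStarBasic
import Cfsg.Agent.S0225
import Cfsg.Agent.S2475

/-!
A group with the order and the element orders of a two-dimensional projective special linear group of
odd characteristic has a normal simple subgroup of that type which is the whole group.
-/

set_option autoImplicit false

namespace Cfsg.Agent.Lib.PSLSpec

open Subgroup

universe u

variable {G : Type u} [Group G]

/-- The arithmetic of the spectrum. -/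
structure OddHyp (G : Type u) [Group G] (p q m n : ℕ) : Prop where
  pp : p.Prime
  qp : ∃ a : ℕ, 0 < a ∧ q = p ^ a
  p2 : p ≠ 2
  mev : Even m
  nodd : Odd n
  n2 : 2 ≤ n
  cop : m.Coprime n
  pm : ¬ p ∣ m
  pn : ¬ p ∣ n
  sum : q = m + n
  near : n ≤ m + 1 ∧ m ≤ n + 1
  ord : ∀ g : G, orderOf g ∣ p ∨ orderOf g ∣ m ∨ orderOf g ∣ n
  hy : ∃ y : G, orderOf y = m
  hx : ∃ x : G, orderOf x = n
  card : Nat.card G = q * (2 * m * n)

theorem exists_odd_prime_dvd {k : ℕ} (hk : Odd k) (h2 : 2 ≤ k) :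
    ∃ r : ℕ, r.Prime ∧ r ≠ 2 ∧ r ∣ k := by
  obtain ⟨r, hr, hd⟩ := Nat.exists_prime_and_dvd (show k ≠ 1 by omega)
  refine ⟨r, hr, fun h => ?_, hd⟩
  subst h
  exact Nat.not_even_iff_odd.2 hk (even_iff_two_dvd.2 hd)

theorem relIndex_sup_normal [Finite G] (C N : Subgroup G) [N.Normal] :
    C.relIndex (C ⊔ N) = C.relIndex N := by
  have e1 := relIndex_mul_relIndex (C ⊓ N) C (C ⊔ N) inf_le_left le_sup_left
  have e2 := relIndex_mul_relIndex (C ⊓ N) N (C ⊔ N) inf_le_right le_sup_right
  rw [← e1, inf_relIndex_left, inf_relIndex_right, relIndex_sup_right,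
    mul_comm (C.relIndex N)] at e2
  exact (Nat.eq_of_mul_eq_mul_left (Nat.pos_of_ne_zero
    (Subgroup.index_ne_zero_of_finite (H := N.subgroupOf C))) e2).symm

namespace OddHyp

variable [Finite G] {p q m n : ℕ} (H : OddHyp G p q m n)
include H

theorem two_dvd : 2 ∣ m := even_iff_two_dvd.1 H.mev

theorem m_pos : 0 < m := by
  obtain ⟨y, hy⟩ := H.hy
  exact hy ▸ orderOf_pos y

theorem q5 : 5 ≤ q := by
  obtain ⟨a, ha, hq⟩ := H.qp
  have h3 : 3 ≤ n := by
    obtain ⟨k, hk⟩ := H.nodd
    have := H.n2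
    omega
  have := H.m_pos
  have := H.two_dvd
  have := H.sum
  omega

theorem comm_m {a b : G} (hab : Commute a b) {r s : ℕ} (hr : r.Prime) (hs : s.Prime)
    (ha : orderOf a = r) (hb : orderOf b = s) (hrm : r ∣ m) : s ∣ m := by
  rcases eq_or_ne r s with rfl | hne
  · exact hrm
  have hcop : r.Coprime s := (Nat.coprime_primes hr hs).2 hne
  have h := hab.orderOf_mul_eq_mul_orderOf_of_coprime (by rw [ha, hb]; exact hcop)
  rw [ha, hb] at h
  rcases H.ord (a * b) with h' | h' | h' <;> rw [h] at h'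
  · have h1 := (Nat.prime_dvd_prime_iff_eq hr H.pp).1 ((dvd_mul_right r s).trans h')
    exact absurd (h1 ▸ hrm) H.pm
  · exact (dvd_mul_left s r).trans h'
  · exact absurd ((dvd_mul_right r s).trans h')
      fun h1 => hr.one_lt.ne' (Nat.eq_one_of_dvd_coprimes H.cop hrm h1)

theorem invol_comm {a b : G} (hab : Commute a b) (ha : orderOf a = 2) {s : ℕ} (hs : s.Prime)
    (hb : orderOf b = s) : s ∣ m :=
  H.comm_m hab Nat.prime_two hs ha hb H.two_dvd

theorem dvd_two_m (K : Subgroup G) (h : ∀ r : ℕ, r.Prime → r ∣ Nat.card K → r ∣ m) :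
    Nat.card K ∣ 2 * m := by
  obtain ⟨a, ha, hq⟩ := H.qp
  have hd : Nat.card K ∣ (q * n) * (2 * m) := by
    have := card_subgroup_dvd_card K
    rw [H.card] at this
    rwa [show q * (2 * m * n) = q * n * (2 * m) by ring] at this
  refine Nat.Coprime.dvd_of_dvd_mul_left (Nat.coprime_of_dvd fun r hr h1 h2 => ?_) hd
  have hrm := h r hr h1
  rcases (Nat.Prime.dvd_mul hr).1 h2 with h3 | h3
  · rw [hq] at h3
    exact H.pm ((Nat.prime_dvd_prime_iff_eq hr H.pp).1 (hr.dvd_of_dvd_pow h3) ▸ hrm)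
  · exact hr.one_lt.ne' (Nat.eq_one_of_dvd_coprimes H.cop hrm h3)

theorem cent_dvd {a : G} (ha1 : a ≠ 1) (ha : orderOf a ∣ m) :
    Nat.card (centralizer ({a} : Set G)) ∣ 2 * m := by
  obtain ⟨r, hr, hd⟩ := Nat.exists_prime_and_dvd (show orderOf a ≠ 1 from fun h => ha1 (orderOf_eq_one_iff.1 h))
  set c := a ^ (orderOf a / r)
  have hc : orderOf c = r := orderOf_pow_orderOf_div (orderOf_pos a).ne' hd
  refine H.dvd_two_m _ fun s hs hsd => ?_
  haveI := Fact.mk hs
  obtain ⟨⟨b, hb⟩, hb'⟩ := exists_prime_orderOf_dvd_card' s hsd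
  rw [Subgroup.orderOf_mk] at hb'
  exact H.comm_m ((show Commute b a from mem_centralizer_singleton_iff.1 hb).pow_right _).symm hr hs
    hc hb' (hd.trans ha)

/-- An odd prime divisor of `m * n` has a cyclic Sylow subgroup. -/
theorem cyclic_sylow {r : ℕ} [hr : Fact r.Prime] (hr2 : r ≠ 2) (hrd : r ∣ m ∨ r ∣ n) (R : Sylow r G) :
    IsCyclic (R : Subgroup G) := by
  obtain ⟨a, ha, hq⟩ := H.qp
  obtain ⟨k, hk, z, hz, hcop⟩ : ∃ (k : ℕ), 0 < k ∧ ∃ z : G, orderOf z = k ∧
      ∃ rest : ℕ, q * (2 * m * n) = k * rest ∧ r.Coprime (rest * 1) ∧ r ∣ k ∧ IsPrimePow k ∧ k.minFac = r := by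
    have hrp : ¬ r ∣ q := fun h => by
      rw [hq] at h
      have := (Nat.prime_dvd_prime_iff_eq hr.out H.pp).1 (hr.out.dvd_of_dvd_pow h)
      subst this
      rcases hrd with h' | h'
      exacts [H.pm h', H.pn h']
    have h2 : ¬ r ∣ 2 := fun h => hr2 ((Nat.prime_dvd_prime_iff_eq hr.out Nat.prime_two).1 h)
    have key : ∀ (A B : ℕ) (w : G), orderOf w = A → q * (2 * m * n) = A * (q * 2 * B) → r ∣ A →
        ¬ r ∣ B → ∃ (k : ℕ), 0 < k ∧ ∃ z : G, orderOf z = k ∧
        ∃ rest : ℕ, q * (2 * m * n) = k * rest ∧ r.Coprime (rest * 1) ∧ r ∣ k ∧ IsPrimePow k ∧ k.minFac = r := by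
      intro A B w hw hAB hrA hrB
      have hA0 : A ≠ 0 := hw ▸ (orderOf_pos w).ne'
      set v := A.factorization r
      have hv : 0 < v := hr.out.factorization_pos_of_dvd hA0 hrA
      refine ⟨r ^ v, pow_pos hr.out.pos _, w ^ (A / r ^ v), ?_, (A / r ^ v) * (q * 2 * B), ?_, ?_,
        dvd_pow_self r hv.ne', hr.out.isPrimePow.pow hv.ne', hr.out.pow_minFac hv.ne'⟩
      · subst hw
        exact orderOf_pow_orderOf_div (orderOf_pos w).ne' (Nat.ordProj_dvd _ _)
      · rw [hAB, ← mul_assoc (r ^ v), Nat.mul_div_cancel' (Nat.ordProj_dvd A r)]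
      · rw [mul_one, hr.out.coprime_iff_not_dvd]
        intro h
        rcases (Nat.Prime.dvd_mul hr.out).1 h with h | h
        · exact Nat.not_dvd_ordCompl hr.out hA0 h
        rcases (Nat.Prime.dvd_mul hr.out).1 h with h | h
        · rcases (Nat.Prime.dvd_mul hr.out).1 h with h | h
          exacts [hrp h, h2 h]
        · exact hrB h
    rcases hrd with h | h
    · obtain ⟨y, hy⟩ := H.hy
      exact key m n y hy (by ring) h fun h' => hr.out.one_lt.ne' (Nat.eq_one_of_dvd_coprimes H.cop h h')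
    · obtain ⟨x, hx⟩ := H.hx
      exact key n m x hx (by ring) h fun h' => hr.out.one_lt.ne' (Nat.eq_one_of_dvd_coprimes H.cop h' h)
  obtain ⟨rest, hrest, hco, -, hpp, hmin⟩ := hcop
  obtain ⟨r', v, hr', hv, hkv⟩ := hpp
  have hr'p := hr'.nat_prime
  have : r' = r := by rw [← hmin, ← hkv, hr'p.pow_minFac hv.ne']
  subst this
  have hP : IsPGroup r' (zpowers z) := IsPGroup.of_card (n := v) (by rw [Nat.card_zpowers, hz, hkv])
  have hidx : ¬ r' ∣ (zpowers z).index := by
    have h1 := (zpowers z).card_mul_index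
    rw [Nat.card_zpowers, hz, H.card, hrest] at h1
    rw [Nat.eq_of_mul_eq_mul_left hk h1]
    rw [mul_one] at hco
    exact hr.out.coprime_iff_not_dvd.1 hco
  set Z := IsPGroup.toSylow hP hidx
  have hZ : IsCyclic (Z : Subgroup G) := (inferInstance : IsCyclic (zpowers z))
  exact (Sylow.equiv R Z).isCyclic.2 hZ

theorem sylow_two_not_cyclic (S : Sylow 2 G) : ¬ IsCyclic (S : Subgroup G) := by
  intro hc
  haveI : Fact (Nat.Prime 2) := ⟨Nat.prime_two⟩
  obtain ⟨g, hg⟩ := IsCyclic.exists_ofOrder_eq_natCard (α := (S : Subgroup G))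
  have hm0 := H.m_pos
  set v := m.factorization 2
  have hmul : 2 ^ (v + 1) ∣ Nat.card G := by
    rw [H.card, pow_succ', show q * (2 * m * n) = 2 * m * (q * n) by ring]
    exact Dvd.dvd.mul_right (Nat.mul_dvd_mul_left 2 (Nat.ordProj_dvd m 2)) _
  have h1 : 2 ^ (v + 1) ∣ orderOf (g : G) := by
    rw [Subgroup.orderOf_coe, hg, S.card_eq_multiplicity]
    refine Nat.pow_dvd_pow 2 ?_
    exact (Nat.prime_two.pow_dvd_iff_le_factorization Nat.card_pos.ne').1 hmul
  have h2 : 2 ∣ orderOf (g : G) := (dvd_pow_self 2 (by omega)).trans h1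
  rcases H.ord (g : G) with h | h | h
  · exact H.p2 ((Nat.prime_dvd_prime_iff_eq Nat.prime_two H.pp).1 (h2.trans h)).symm
  · exact Nat.pow_succ_factorization_not_dvd hm0.ne' Nat.prime_two (h1.trans h)
  · exact Nat.not_even_iff_odd.2 H.nodd (even_iff_two_dvd.2 (h2.trans h))

theorem dvd_index_false {N : Subgroup G} [N.Normal] (hodd : Odd (Nat.card N)) {z : G}
    (hz : orderOf z = 2) (hcent : ∀ g : G, z * g * z⁻¹ * g⁻¹ ∈ N) {s : ℕ} (hs : s.Prime)
    (hsm : ¬ s ∣ m) : ¬ s ∣ N.index := by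
  intro hd
  haveI := Fact.mk hs
  haveI : Fact (Nat.Prime 2) := ⟨Nat.prime_two⟩
  obtain ⟨g, hg⟩ := exists_prime_orderOf_dvd_card' (G := G ⧸ N) s hd
  obtain ⟨g, rfl⟩ := QuotientGroup.mk_surjective g
  have hz2 : orderOf ((z : G ⧸ N)) = 2 := by
    refine orderOf_eq_prime ?_ ?_
    · rw [← QuotientGroup.mk_pow, ← hz, pow_orderOf_eq_one, QuotientGroup.mk_one]
    · rw [Ne, QuotientGroup.eq_one_iff]
      intro h
      have := hz ▸ orderOf_dvd_natCard N h
      exact Nat.not_even_iff_odd.2 hodd (even_iff_two_dvd.2 this)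
  have hc : Commute (z : G ⧸ N) g := by
    have h := (QuotientGroup.eq_one_iff _).2 (hcent g)
    simp only [QuotientGroup.mk_mul, QuotientGroup.mk_inv] at h
    exact mul_inv_eq_iff_eq_mul.1 (mul_inv_eq_one.1 h)
  have h2s : s ≠ 2 := fun h => hsm (h ▸ H.two_dvd)
  have h := hc.orderOf_mul_eq_mul_orderOf_of_coprime
    (by rw [hz2, hg]; exact (Nat.coprime_primes Nat.prime_two hs).2 (Ne.symm h2s))
  rw [hz2, hg, ← QuotientGroup.mk_mul] at h
  have hd2 : 2 * s ∣ orderOf (z * g) := h ▸ orderOf_map_dvd (QuotientGroup.mk' N) (z * g)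
  rcases H.ord (z * g) with h' | h' | h'
  · exact H.p2 ((Nat.prime_dvd_prime_iff_eq Nat.prime_two H.pp).1
      ((dvd_mul_right 2 s).trans (hd2.trans h'))).symm
  · exact hsm ((dvd_mul_left s 2).trans (hd2.trans h'))
  · exact Nat.not_even_iff_odd.2 H.nodd (even_iff_two_dvd.2 ((dvd_mul_right 2 s).trans (hd2.trans h')))

/-- A Sylow 2-subgroup normalises a subgroup of order `r` of a normal subgroup of odd order. -/
theorem exists_normalized {N : Subgroup G} [N.Normal] (hodd : Odd (Nat.card N)) {r : ℕ}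
    [hr : Fact r.Prime] (hrd : r ∣ Nat.card N) :
    ∃ (R : Subgroup G) (S : Sylow 2 G), R ≤ N ∧ IsPGroup r R ∧ R ≠ ⊥ ∧
      (S : Subgroup G) ≤ normalizer (R : Set G) := by
  haveI : Fact (Nat.Prime 2) := ⟨Nat.prime_two⟩
  obtain ⟨P⟩ := (inferInstance : Nonempty (Sylow r N))
  set R := (P : Subgroup N).map N.subtype
  have hfr := Sylow.normalizer_sup_eq_top P
  have hdvd : (normalizer (R : Set G)).index ∣ Nat.card N := by
    have h1 : (normalizer (R : Set G)).relIndex N = (normalizer (R : Set G)).index := by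
      rw [← relIndex_sup_normal, hfr, relIndex_top_right]
    exact h1 ▸ relIndex_dvd_card _ _
  obtain ⟨Q⟩ := (inferInstance : Nonempty (Sylow 2 (normalizer (R : Set G))))
  have hQ : ¬ 2 ∣ ((Q : Subgroup (normalizer (R : Set G))).map (normalizer (R : Set G)).subtype).index := by
    rw [index_map_subtype, Nat.prime_two.dvd_mul]
    exact not_or.2 ⟨Q.not_dvd_index, fun h =>
      Nat.not_even_iff_odd.2 hodd (even_iff_two_dvd.2 (h.trans hdvd))⟩
  refine ⟨R, IsPGroup.toSylow (Q.2.map _) hQ, map_subtype_le _, P.2.map _, fun h => ?_, map_subtype_le _⟩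
  exact P.ne_bot_of_dvd_card hrd ((map_eq_bot_iff_of_injective _ N.subtype_injective).1 h)

theorem exists_klein : ∃ E : Subgroup G, IsKleinFour E := by
  by_contra hno
  push Not at hno
  have hev : Even (Nat.card G) := by
    rw [H.card]
    exact ((H.mev.mul_left 2).mul_right n).mul_left q
  obtain ⟨z, hz, N, hN, hodd, hcent⟩ := S0225.result hev hno
  obtain ⟨r, hr, hr2, hrn⟩ := exists_odd_prime_dvd H.nodd H.n2
  haveI := Fact.mk hr
  have hrm : ¬ r ∣ m := fun h => hr.one_lt.ne' (Nat.eq_one_of_dvd_coprimes H.cop h hrn)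
  have hrN : r ∣ Nat.card N := by
    have hG : r ∣ Nat.card N * N.index := by
      rw [N.card_mul_index, H.card]; exact (hrn.mul_left _).mul_left _
    exact (hr.dvd_mul.1 hG).resolve_right (H.dvd_index_false hodd hz hcent hr hrm)
  obtain ⟨R, S, -, hRp, hR1, hSn⟩ := H.exists_normalized hodd hrN
  obtain ⟨Q, hRQ⟩ := hRp.exists_le_sylow
  haveI := H.cyclic_sylow hr2 (Or.inr hrn) Q
  haveI : IsCyclic R := Subgroup.isCyclic_of_le hRQ
  haveI : Fact (Nat.Prime 2) := ⟨Nat.prime_two⟩
  haveI : Nontrivial R := R.nontrivial_iff_ne_bot.2 hR1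
  obtain ⟨k, hk, hcard⟩ := hRp.nontrivial_iff_card.1 inferInstance
  let f : (S : Subgroup G) →* MulAut R :=
    { toFun := fun s =>
        { toFun := fun x => ⟨s * x * (s : G)⁻¹, (mem_normalizer_iff.1 (hSn s.2) x).1 x.2⟩
          invFun := fun x => ⟨(s : G)⁻¹ * x * s, (mem_normalizer_iff''.1 (hSn s.2) x).1 x.2⟩
          left_inv := fun x => Subtype.ext (by show (s : G)⁻¹ * (s * x * (s : G)⁻¹) * s = x; group)
          right_inv := fun x => Subtype.ext (by show (s : G) * ((s : G)⁻¹ * x * s) * (s : G)⁻¹ = x; group)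
          map_mul' := fun x y => Subtype.ext (by
            show (s : G) * (x * y) * (s : G)⁻¹ = s * x * (s : G)⁻¹ * (s * y * (s : G)⁻¹); group) }
      map_one' := MulEquiv.ext fun x => Subtype.ext (by
        show ((1 : (S : Subgroup G)) : G) * x * ((1 : (S : Subgroup G)) : G)⁻¹ = x; simp)
      map_mul' := fun s s' => MulEquiv.ext fun x => Subtype.ext (by
        show (s * s' : G) * x * (s * s' : G)⁻¹ = s * (s' * x * (s' : G)⁻¹) * (s : G)⁻¹; group) }
  have hf : Function.Injective f := by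
    rw [injective_iff_map_eq_one]
    intro s hs1
    by_contra hne
    obtain ⟨j, hj⟩ := IsPGroup.iff_orderOf.1 S.2 s
    have hj0 : j ≠ 0 := fun h => hne (orderOf_eq_one_iff.1 (by rw [hj, h, pow_zero]))
    have h2 : 2 ∣ orderOf (s : G) := by rw [Subgroup.orderOf_coe, hj]; exact dvd_pow_self 2 hj0
    obtain ⟨a, ha⟩ := exists_prime_orderOf_dvd_card' (G := R) r (hcard ▸ dvd_pow_self r hk.ne')
    have hfix : (s : G) * a * (s : G)⁻¹ = a := congrArg Subtype.val (DFunLike.congr_fun hs1 a)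
    have hc : Commute ((s : G) ^ (orderOf (s : G) / 2)) (a : G) :=
      Commute.pow_left (mul_inv_eq_iff_eq_mul.1 hfix) _
    exact hrm (H.invol_comm hc (orderOf_pow_orderOf_div (orderOf_pos _).ne' h2) hr
      (by rw [Subgroup.orderOf_coe, ha]))
  have : IsCyclic (MulAut R) := by
    have e := IsCyclic.mulAutMulEquiv R
    rw [hcard] at e
    haveI := ZMod.isCyclic_units_of_prime_pow r hr hr2 k
    exact e.symm.isCyclic.1 inferInstance
  haveI := this
  exact H.sylow_two_not_cyclic S (isCyclic_of_injective f hf)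

theorem odd_normal_bot (N : Subgroup G) [N.Normal] (hodd : Odd (Nat.card N)) : N = ⊥ := by
  classical
  by_contra hne
  haveI : Fact (Nat.Prime 2) := ⟨Nat.prime_two⟩
  obtain ⟨E, hE⟩ := H.exists_klein
  have hrm : ∀ r : ℕ, r.Prime → r ∣ Nat.card N → r ∣ m := by
    intro r hr hrd
    by_contra hnm
    haveI := Fact.mk hr
    obtain ⟨R, S, -, hRp, hR1, hSn⟩ := H.exists_normalized hodd hrd
    obtain ⟨a, ha, b, hb, ha2, hb2, hab⟩ := two_invols hE S
    obtain ⟨w, hw⟩ : ∃ w : R, orderOf w = r := by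
      obtain ⟨k, hk, hcard⟩ := hRp.nontrivial_iff_card.1 (R.nontrivial_iff_ne_bot.2 hR1)
      exact exists_prime_orderOf_dvd_card' r (hcard ▸ dvd_pow_self r hk.ne')
    -- every involution normalising `R` inverts it
    have hinv : ∀ v ∈ (S : Subgroup G), orderOf v = 2 → ∀ x ∈ R, v * x * v⁻¹ = x⁻¹ := by
      intro v hv hv2 x hx
      have hvv : v * v = 1 := by rw [← pow_two, ← hv2, pow_orderOf_eq_one]
      let φ : R →* R :=
        { toFun := fun y => ⟨v * y * v⁻¹, (mem_normalizer_iff.1 (hSn hv) y).1 y.2⟩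
          map_one' := Subtype.ext (by simp)
          map_mul' := fun y y' => Subtype.ext (by
            show v * (y * y' : G) * v⁻¹ = v * y * v⁻¹ * (v * y' * v⁻¹); group) }
      have hfree : MonoidHom.FixedPointFree φ := fun y hy => by
        by_contra hy1
        obtain ⟨j, hj⟩ := IsPGroup.iff_orderOf.1 hRp y
        have hj0 : j ≠ 0 := fun h => hy1 (orderOf_eq_one_iff.1 (by rw [hj, h, pow_zero]))
        have hd : r ∣ orderOf (y : G) := by rw [Subgroup.orderOf_coe, hj]; exact dvd_pow_self r hj0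
        have hc : Commute v ((y : G) ^ (orderOf (y : G) / r)) :=
          Commute.pow_right (mul_inv_eq_iff_eq_mul.1 (congrArg Subtype.val hy)) _
        exact hnm (H.invol_comm hc hv2 hr (orderOf_pow_orderOf_div (orderOf_pos _).ne' hd))
      have h2 : Function.Involutive φ := fun y => Subtype.ext (by
        show v * (v * y * v⁻¹) * v⁻¹ = y
        rw [show v * (v * (y : G) * v⁻¹) * v⁻¹ = (v * v) * y * (v * v)⁻¹ by group, hvv]; group)
      exact congrArg Subtype.val (congrFun (hfree.coe_eq_inv_of_involutive h2) ⟨x, hx⟩)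
    have hi1 := hinv a ha ha2 _ w.2
    have hi2 := hinv b hb hb2 _ w.2
    have hc : Commute (a * b) (w : G) := by
      refine mul_inv_eq_iff_eq_mul.1 ?_
      rw [show a * b * (w : G) * (a * b)⁻¹ = a * (b * w * b⁻¹) * a⁻¹ by group, hi2,
        show a * (w : G)⁻¹ * a⁻¹ = (a * w * a⁻¹)⁻¹ by group, hi1, inv_inv]
    have hab1 : a * b ≠ 1 := fun h => hab (by
      rw [mul_eq_one_iff_eq_inv.1 h, inv_eq_of_mul_eq_one_right (by rw [← pow_two, ← hb2, pow_orderOf_eq_one])])
    obtain ⟨j, hj⟩ := IsPGroup.iff_orderOf.1 S.2 ⟨a * b, mul_mem ha hb⟩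
    rw [Subgroup.orderOf_mk] at hj
    have hj0 : j ≠ 0 := fun h => hab1 (orderOf_eq_one_iff.1 (by rw [hj, h, pow_zero]))
    exact hnm (H.invol_comm (hc.pow_left (orderOf (a * b) / 2))
      (orderOf_pow_orderOf_div (orderOf_pos _).ne' (hj ▸ dvd_pow_self 2 hj0)) hr
      (by rw [Subgroup.orderOf_coe, hw]))
  haveI : IsZGroup N := ⟨fun r hr P => by
    haveI := Fact.mk hr
    by_cases hrd : r ∣ Nat.card N
    · obtain ⟨Q, hQ⟩ := (P.2.map N.subtype).exists_le_sylow
      have hr2 : r ≠ 2 := fun h => Nat.not_even_iff_odd.2 hodd (even_iff_two_dvd.2 (h ▸ hrd))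
      haveI := H.cyclic_sylow hr2 (Or.inl (hrm r hr hrd)) Q
      haveI : IsCyclic ((P : Subgroup N).map N.subtype) := Subgroup.isCyclic_of_le hQ
      exact ((P : Subgroup N).equivMapOfInjective _ N.subtype_injective).isCyclic.2 inferInstance
    · rcases P.2.exists_card_eq with ⟨k, hk⟩
      have hk0 : k = 0 := by
        by_contra h
        exact hrd ((dvd_pow_self r h).trans (hk ▸ card_subgroup_dvd_card _))
      haveI : Subsingleton (P : Subgroup N) :=
        (Nat.card_eq_one_iff_unique.1 (by rw [hk, hk0, pow_zero])).1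
      exact isCyclic_of_subsingleton⟩
  obtain ⟨M, hM, hMN⟩ := Recog.exists_minNormal_le (inferInstance : N.Normal) hne
  haveI := hM.1
  haveI : IsZGroup M := IsZGroup.of_injective (f := Subgroup.inclusion hMN) (inclusion_injective hMN)
  haveI : Group.IsSolvable M := inferInstance
  obtain ⟨hc, -⟩ := Hall.minimal_normal_solvable M hM.2.1 hM.2.2
  obtain ⟨r, hr, hexp⟩ := hM.exists_prime_exp hc
  haveI := Fact.mk hr
  haveI := hc
  haveI : IsCyclic M := by
    letI : CommGroup M := { (inferInstance : Group M) with mul_comm := fun a b => hc.is_comm.comm a b }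
    haveI : Group.IsNilpotent M := inferInstance
    infer_instance
  obtain ⟨a, ha⟩ := IsCyclic.exists_ofOrder_eq_natCard (α := M)
  have hMcard : Nat.card M = r := by
    rw [← ha]
    refine ((Nat.dvd_prime hr).1 (orderOf_dvd_of_pow_eq_one (Subtype.ext (hexp _ a.2)))).resolve_left ?_
    intro h1
    rw [ha] at h1
    exact hM.2.1 (card_eq_one.1 h1)
  have har : orderOf (a : G) = r := by rw [Subgroup.orderOf_coe, ha, hMcard]
  have hrdm : r ∣ m := hrm r hr (hMcard ▸ card_dvd_of_le hMN)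
  have hcd := H.cent_dvd (a := (a : G)) (fun h => by rw [h, orderOf_one] at har; exact hr.one_lt.ne har)
    (har ▸ hrdm)
  -- the conjugates of `a`
  have horb : (centralizer ({(a : G)} : Set G)).index ≤ r := by
    letI : MulAction (⊤ : Subgroup G) G :=
      MulAction.compHom G ((MulAut.conj : G →* MulAut G).comp (⊤ : Subgroup G).subtype)
    have hst : MulAction.stabilizer (⊤ : Subgroup G) (a : G) =
        (centralizer ({(a : G)} : Set G)).subgroupOf ⊤ := by
      ext g
      rw [MulAction.mem_stabilizer_iff, mem_subgroupOf, mem_centralizer_singleton_iff,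
        ← mul_inv_eq_iff_eq_mul]
      rfl
    rw [← relIndex_top_right, Subgroup.relIndex, ← hst, MulAction.index_stabilizer]
    refine le_trans (Set.ncard_le_ncard (t := (M : Set G)) ?_) (le_of_eq ?_)
    · rintro _ ⟨g, rfl⟩
      exact hM.1.conj_mem _ a.2 (g : G)
    · rw [← Nat.card_coe_set_eq]; exact hMcard
  have h1 := (centralizer ({(a : G)} : Set G)).card_mul_index
  rw [H.card] at h1
  have hrm' : r ≤ m := Nat.le_of_dvd H.m_pos hrdm
  have hm0 := H.m_pos
  have hcle := Nat.le_of_dvd (by omega) hcd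
  have hsum := H.sum
  have hn := H.n2
  have h5 := (h1.symm.le.trans (Nat.mul_le_mul hcle (horb.trans hrm')))
  rw [show q * (2 * m * n) = 2 * m * (q * n) by ring] at h5
  have h6 : q * n ≤ m := Nat.le_of_mul_le_mul_left h5 (by omega)
  have h7 : q * 2 ≤ q * n := Nat.mul_le_mul_left q hn
  omega

theorem exists_y : ∃ (Y : Subgroup G) (t : G), IsCyclic Y ∧ Nat.card Y = m ∧ t ∈ Y ∧ orderOf t = 2 ∧
    (∀ b ∈ Y, b ≠ 1 → Y.relIndex (centralizer ({b} : Set G)) ∣ 2) ∧
    Nat.card (centralizer ({t} : Set G)) = 2 * m := by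
  haveI : Fact (Nat.Prime 2) := ⟨Nat.prime_two⟩
  obtain ⟨y, hy⟩ := H.hy
  set Y := zpowers y
  have hYc : Nat.card Y = m := by rw [Nat.card_zpowers, hy]
  have hY : IsCyclic Y := inferInstance
  set t := y ^ (m / 2)
  have ht : orderOf t = 2 := by
    simp only [t, ← hy]
    exact orderOf_pow_orderOf_div (orderOf_pos y).ne' (hy ▸ H.two_dvd)
  have htY : t ∈ Y := pow_mem (mem_zpowers y) _
  have hle : ∀ b ∈ Y, Y ≤ centralizer ({b} : Set G) := fun b hb x hx =>
    mem_centralizer_singleton_iff.2 (mul_comm_of_cyclic hY hx hb)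
  have hsmall : ∀ b ∈ Y, b ≠ 1 → Y.relIndex (centralizer ({b} : Set G)) ∣ 2 := by
    intro b hb hb1
    have h1 := H.cent_dvd hb1 (by rw [← hy]; exact orderOf_dvd_of_mem_zpowers hb)
    rw [← Subgroup.index_mul_card (Y.subgroupOf _),
      Nat.card_congr (Subgroup.subgroupOfEquivOfLe (hle b hb)).toEquiv, hYc] at h1
    exact Nat.dvd_of_mul_dvd_mul_right H.m_pos h1
  refine ⟨Y, t, hY, hYc, htY, ht, hsmall, ?_⟩
  have ht1 : t ≠ 1 := fun h => by rw [h, orderOf_one] at ht; omega
  have hd := hsmall t htY ht1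
  have hcard := Subgroup.index_mul_card (Y.subgroupOf (centralizer ({t} : Set G)))
  rw [Nat.card_congr (Subgroup.subgroupOfEquivOfLe (hle t htY)).toEquiv, hYc] at hcard
  rcases (Nat.dvd_prime Nat.prime_two).1 hd with h | h
  swap
  · rw [← hcard, ← h]; rfl
  exfalso
  have hCY : centralizer ({t} : Set G) = Y := le_antisymm (relIndex_eq_one.1 h) (hle t htY)
  set v := m.factorization 2
  have hv : 0 < v := Nat.prime_two.factorization_pos_of_dvd H.m_pos.ne' H.two_dvd
  have hyT : orderOf (y ^ (m / 2 ^ v)) = 2 ^ v := by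
    simp only [v]
    rw [← hy]
    exact orderOf_pow_orderOf_div (orderOf_pos y).ne' (Nat.ordProj_dvd _ _)
  set T := zpowers (y ^ (m / 2 ^ v))
  have hT : Nat.card T = 2 ^ v := by rw [Nat.card_zpowers, hyT]
  have hdvd : 2 ^ (v + 1) ∣ Nat.card G := by
    rw [H.card, pow_succ', show q * (2 * m * n) = 2 * m * (q * n) by ring]
    exact Dvd.dvd.mul_right (Nat.mul_dvd_mul_left 2 (Nat.ordProj_dvd m 2)) _
  obtain ⟨K, hK, hTK⟩ := Sylow.exists_subgroup_card_pow_succ hdvd hT
  have hidx : T.relIndex K = 2 := by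
    have := Subgroup.index_mul_card (T.subgroupOf K)
    rw [Nat.card_congr (Subgroup.subgroupOfEquivOfLe hTK).toEquiv, hK, hT, pow_succ'] at this
    exact Nat.eq_of_mul_eq_mul_right (pow_pos two_pos v) this
  haveI := Subgroup.normal_of_index_eq_two hidx
  have htT : t ∈ T := by
    refine mem_zpowers_iff.2 ⟨((2 ^ (v - 1) : ℕ) : ℤ), ?_⟩
    rw [zpow_natCast, ← pow_mul]
    congr 1
    obtain ⟨c, hc⟩ : ∃ c, v = c + 1 := ⟨v - 1, by omega⟩
    obtain ⟨d, hd'⟩ := Nat.ordProj_dvd m 2
    simp only [v] at hc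
    rw [hc] at hd'
    simp only [v, hc, Nat.add_sub_cancel]
    rw [hd', Nat.mul_div_cancel_left _ (pow_pos two_pos _), pow_succ,
      show 2 ^ c * 2 * d = 2 * (2 ^ c * d) by ring, Nat.mul_div_cancel_left _ two_pos, mul_comm]
  have hKY : K ≤ Y := by
    intro k hk
    rw [← hCY, mem_centralizer_singleton_iff]
    have h1 : k * t * k⁻¹ ∈ T :=
      (inferInstance : (T.subgroupOf K).Normal).conj_mem (⟨t, hTK htT⟩ : K) htT ⟨k, hk⟩
    exact mul_inv_eq_iff_eq_mul.1 (unique_invol (B := T) inferInstance h1 htT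
      (by rw [← MulAut.conj_apply, MulEquiv.orderOf_eq, ht]) ht)
  have := card_dvd_of_le hKY
  rw [hK, hYc] at this
  exact Nat.pow_succ_factorization_not_dvd H.m_pos.ne' Nat.prime_two this

/-- An elementary abelian 2-subgroup has order at most four. -/
theorem elem_le_four (E : Subgroup G) (h : ∀ x ∈ E, x ^ 2 = 1) : Nat.card E ≤ 4 := by
  classical
  haveI : Fact (Nat.Prime 2) := ⟨Nat.prime_two⟩
  obtain ⟨Y, t, hY, hYc, htY, ht, hsmall, hC⟩ := H.exists_y
  have hEp : IsPGroup 2 E := fun x => ⟨1, Subtype.ext (by simpa using h x.1 x.2)⟩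
  obtain ⟨Q, hQ⟩ := hEp.exists_le_sylow
  set C := centralizer ({t} : Set G)
  obtain ⟨R⟩ := (inferInstance : Nonempty (Sylow 2 C))
  have hR : ¬ 2 ∣ ((R : Subgroup C).map C.subtype).index := by
    rw [index_map_subtype, Nat.prime_two.dvd_mul]
    refine not_or.2 ⟨R.not_dvd_index, fun h2 => ?_⟩
    have h1 := C.card_mul_index
    rw [H.card, hC, show q * (2 * m * n) = 2 * m * (q * n) by ring] at h1
    rw [Nat.eq_of_mul_eq_mul_left (by have := H.m_pos; omega) h1, Nat.prime_two.dvd_mul] at h2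
    rcases h2 with h2 | h2
    · obtain ⟨a, -, hq⟩ := H.qp
      rw [hq] at h2
      exact H.p2 ((Nat.prime_dvd_prime_iff_eq Nat.prime_two H.pp).1
        (Nat.prime_two.dvd_of_dvd_pow h2)).symm
    · exact Nat.not_even_iff_odd.2 H.nodd (even_iff_two_dvd.2 h2)
  obtain ⟨g, hg⟩ := MulAction.exists_smul_eq G Q (IsPGroup.toSylow (R.2.map C.subtype) hR)
  have hmem : ∀ x ∈ E, g * x * g⁻¹ ∈ C := fun x hx => by
    have h1 : g * x * g⁻¹ ∈ ((IsPGroup.toSylow (R.2.map C.subtype) hR : Sylow 2 G) : Subgroup G) := by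
      rw [← hg, Sylow.coe_subgroup_smul]
      exact Subgroup.smul_mem_pointwise_smul x (MulAut.conj g) _ (hQ hx)
    exact map_subtype_le _ h1
  set E' := E.map (MulAut.conj g).toMonoidHom
  have hE'C : E' ≤ C := by rintro _ ⟨x, hx, rfl⟩; exact hmem x hx
  have hcard : Nat.card E' = Nat.card E :=
    Subgroup.card_map_of_injective (MulAut.conj g).injective
  have hsq : ∀ x ∈ E', x ^ 2 = 1 := by
    rintro _ ⟨x, hx, rfl⟩
    rw [← map_pow, h x hx, map_one]
  have h2 : Nat.card (Y.subgroupOf E') ≤ 2 := by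
    haveI : Fintype (Y.subgroupOf E') := Fintype.ofFinite _
    have hsub : ∀ z : Y.subgroupOf E', z = 1 ∨ ((z : E') : G) = t := fun z => by
      rcases eq_or_ne z 1 with hz | hz
      · exact Or.inl hz
      refine Or.inr (unique_invol hY z.2 htY (orderOf_eq_prime (hsq _ (z : E').2) fun e => ?_) ht)
      exact hz (Subtype.ext (Subtype.ext e))
    rw [Nat.card_eq_fintype_card, ← Finset.card_univ]
    refine le_trans (Finset.card_le_card_of_injOn (fun z => ((z : E') : G)) (t := ({1, t} : Finset G))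
      (fun z _ => ?_) fun z _ z' _ e => Subtype.ext (Subtype.ext e)) Finset.card_le_two
    rcases hsub z with rfl | hz <;> simp_all
  have h3 : (Y.subgroupOf E').index ≤ 2 := by
    have h5 := Subgroup.relIndex_le_of_le_right hE'C (H := Y) (fun h0 => by
      have := hsmall t htY (fun e => by rw [e, orderOf_one] at ht; omega)
      rw [h0] at this
      simp at this)
    exact h5.trans (Nat.le_of_dvd two_pos (hsmall t htY fun e => by rw [e, orderOf_one] at ht; omega))
  rw [← hcard, ← Subgroup.index_mul_card (Y.subgroupOf E')]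
  exact le_trans (Nat.mul_le_mul h3 h2) (le_refl 4)

theorem no_abelian_normal (M : Subgroup G) [M.Normal] (hc : IsMulCommutative M) : M = ⊥ := by
  classical
  by_contra hne
  obtain ⟨M₁, hM, hle⟩ := Recog.exists_minNormal_le (inferInstance : M.Normal) hne
  haveI := hM.1
  have hc₁ : IsMulCommutative M₁ := ⟨⟨fun a b => by
    have h1 : (⟨a, hle a.2⟩ : M) * ⟨b, hle b.2⟩ = ⟨b, hle b.2⟩ * ⟨a, hle a.2⟩ := hc.is_comm.comm _ _
    exact Subtype.ext (show (a : G) * b = b * a from congrArg Subtype.val h1)⟩⟩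
  obtain ⟨r, hr, hexp⟩ := hM.exists_prime_exp hc₁
  haveI := Fact.mk hr
  have hMp : IsPGroup r M₁ := fun x => ⟨1, Subtype.ext (by simpa using hexp x.1 x.2)⟩
  obtain ⟨k, hk⟩ := hMp.exists_card_eq
  rcases eq_or_ne r 2 with rfl | hr2
  swap
  · refine hM.2.1 (H.odd_normal_bot M₁ ?_)
    rw [hk]; exact (hr.odd_of_ne_two hr2).pow
  have h4 := H.elem_le_four M₁ hexp
  obtain ⟨a, ha, ha1⟩ := (M₁.bot_or_exists_ne_one).resolve_left hM.2.1
  have hcd := H.cent_dvd ha1
    ((orderOf_dvd_of_pow_eq_one (hexp a ha)).trans H.two_dvd)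
  have horb : (centralizer ({a} : Set G)).index ≤ 3 := by
    letI : MulAction (⊤ : Subgroup G) G :=
      MulAction.compHom G ((MulAut.conj : G →* MulAut G).comp (⊤ : Subgroup G).subtype)
    have hst : MulAction.stabilizer (⊤ : Subgroup G) a =
        (centralizer ({a} : Set G)).subgroupOf ⊤ := by
      ext g
      rw [MulAction.mem_stabilizer_iff, mem_subgroupOf, mem_centralizer_singleton_iff,
        ← mul_inv_eq_iff_eq_mul]
      rfl
    rw [← relIndex_top_right, Subgroup.relIndex, ← hst, MulAction.index_stabilizer]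
    refine le_trans (Set.ncard_le_ncard (t := (M₁ : Set G) \ {1}) ?_) ?_
    · rintro _ ⟨g, rfl⟩
      exact ⟨hM.1.conj_mem _ ha (g : G), fun e => ha1 (conj_eq_one_iff.1 e)⟩
    · rw [Set.ncard_diff_singleton_of_mem (show (1 : G) ∈ (M₁ : Set G) from one_mem _)]
      rw [← Nat.card_coe_set_eq]
      have : Nat.card ((M₁ : Set G) : Type u) ≤ 4 := h4
      omega
  have h1 := (centralizer ({a} : Set G)).card_mul_index
  rw [H.card] at h1
  have hm0 := H.m_pos
  have hcle := Nat.le_of_dvd (by omega) hcd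
  have := H.q5
  have := H.n2
  have h5 := (h1.symm.le.trans (Nat.mul_le_mul hcle horb))
  rw [show q * (2 * m * n) = 2 * m * (q * n) by ring] at h5
  have h6 : q * n ≤ 3 := Nat.le_of_mul_le_mul_left h5 (by omega)
  have h7 : 5 * 2 ≤ q * n := Nat.mul_le_mul H.q5 H.n2
  omega

theorem no_two_normal (M : Subgroup G) [M.Normal] (h : IsPGroup 2 M) : M = ⊥ := by
  by_contra hne
  haveI : Fact (Nat.Prime 2) := ⟨Nat.prime_two⟩
  haveI : Nontrivial M := M.nontrivial_iff_ne_bot.2 hne
  haveI := h.center_nontrivial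
  have h1 : ((center M).map M.subtype) = ⊥ := H.no_abelian_normal _
    ⟨⟨fun a b => by
      obtain ⟨a', ha', ea⟩ := a.2
      obtain ⟨b', hb', eb⟩ := b.2
      refine Subtype.ext ?_
      show (a : G) * b = b * a
      rw [← ea, ← eb]
      exact congrArg Subtype.val (mem_center_iff.1 hb' a')⟩⟩
  rw [map_eq_bot_iff_of_injective _ M.subtype_injective] at h1
  exact (Subgroup.nontrivial_iff_ne_bot (center M)).1 inferInstance h1

/-- Klein subgroups in normal subgroups of normal subgroups. -/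
theorem klein_sub {N : Subgroup G} [N.Normal] {K : Subgroup N} [K.Normal] (hK : K ≠ ⊥) :
    ∃ E : Subgroup G, IsKleinFour E ∧ E ≤ K.map N.subtype := by
  haveI : Fact (Nat.Prime 2) := ⟨Nat.prime_two⟩
  have hO : Cfsg.oddCore N = ⊥ := by
    rw [← map_eq_bot_iff_of_injective _ N.subtype_injective]
    haveI : (Cfsg.oddCore N).Characteristic := Hall.pPrimeCore_characteristic 2
    refine H.odd_normal_bot _ ?_
    rw [card_map_of_injective N.subtype_injective]
    exact Nat.coprime_two_right.1 (Hall.coprime_card_pPrimeCore 2)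
  have hnoOdd : ∀ K₁ : Subgroup N, K₁.Normal → Odd (Nat.card K₁) → K₁ = ⊥ := fun K₁ h1 h2 =>
    le_bot_iff.1 (hO ▸ Involution.le_oddCore_of_odd h1 h2)
  have hev : Even (Nat.card K) := by
    rw [← Nat.not_odd_iff_even]
    exact fun h => hK (hnoOdd K inferInstance h)
  by_contra hno
  push Not at hno
  have hno' : ∀ E : Subgroup K, ¬ IsKleinFour E := fun E hE => by
    refine hno ((E.map K.subtype).map N.subtype) ?_ (map_mono (map_subtype_le E))
    have e : E ≃* ((E.map K.subtype).map N.subtype : Subgroup G) :=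
      (E.equivMapOfInjective _ K.subtype_injective).trans
        ((E.map K.subtype).equivMapOfInjective _ N.subtype_injective)
    exact ⟨by rw [← Nat.card_congr e.toEquiv, hE.card_four],
      by rw [← Monoid.exponent_eq_of_mulEquiv e, hE.exponent_two]⟩
  obtain ⟨z, hz, K₁, hK₁, hodd, hcent⟩ := S0225.result hev hno'
  have hK₁bot : K₁ = ⊥ := by
    have hle : K₁ ≤ Cfsg.oddCore K := Involution.le_oddCore_of_odd hK₁ hodd
    haveI : (Cfsg.oddCore K).Characteristic := Hall.pPrimeCore_characteristic 2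
    have := hnoOdd ((Cfsg.oddCore K).map K.subtype) inferInstance (by
      rw [card_map_of_injective K.subtype_injective]
      exact Nat.coprime_two_right.1 (Hall.coprime_card_pPrimeCore 2))
    rw [map_eq_bot_iff_of_injective _ K.subtype_injective] at this
    exact le_bot_iff.1 (this ▸ hle)
  have hzc : z ∈ center K := mem_center_iff.2 fun g => by
    have := hcent g
    rw [hK₁bot, mem_bot, mul_inv_eq_one, mul_inv_eq_iff_eq_mul] at this
    exact this.symm
  obtain ⟨T⟩ := (inferInstance : Nonempty (Sylow 2 (center K)))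
  haveI hTc : (T : Subgroup (center K)).Characteristic := Sylow.characteristic_of_normal T inferInstance
  haveI hA : ((T : Subgroup (center K)).map (center K).subtype).Characteristic := inferInstance
  haveI hB : (((T : Subgroup (center K)).map (center K).subtype).map K.subtype).Normal := inferInstance
  have h2 : IsPGroup 2 (((T : Subgroup (center K)).map (center K).subtype).map K.subtype) :=
    (T.2.map _).map _
  have hle : ((T : Subgroup (center K)).map (center K).subtype).map K.subtype ≤ Cfsg.pCore 2 N :=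
    le_sSup ⟨hB, h2⟩
  haveI : (Cfsg.pCore 2 N).Characteristic := Hall.pCore_characteristic 2
  have hN2 : Cfsg.pCore 2 N = ⊥ := by
    rw [← map_eq_bot_iff_of_injective _ N.subtype_injective]
    exact H.no_two_normal _ ((Hall.isPGroup_pCore 2).map _)
  rw [hN2, le_bot_iff, map_eq_bot_iff_of_injective _ K.subtype_injective,
    map_eq_bot_iff_of_injective _ (center K).subtype_injective] at hle
  refine T.ne_bot_of_dvd_card ?_ hle
  rw [← hz, ← Subgroup.orderOf_mk z hzc]
  exact orderOf_dvd_natCard _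

theorem no_klein_pair {E F : Subgroup G} (hE : IsKleinFour E) (hF : IsKleinFour F)
    (hdis : E ⊓ F = ⊥) (hc : ∀ a ∈ E, ∀ b ∈ F, a * b = b * a) : False := by
  let f : E × F →* G :=
    { toFun := fun x => x.1 * x.2
      map_one' := by simp
      map_mul' := fun x y => by
        show (x.1 * y.1 : G) * (x.2 * y.2) = x.1 * x.2 * (y.1 * y.2)
        rw [mul_assoc, ← mul_assoc (y.1 : G), hc _ y.1.2 _ x.2.2]
        simp only [mul_assoc] }
  have hf : Function.Injective f := by
    rw [injective_iff_map_eq_one]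
    rintro ⟨a, b⟩ hab
    have h1 : (a : G) = (b : G)⁻¹ := mul_eq_one_iff_eq_inv.1 hab
    have h2 : (a : G) ∈ E ⊓ F := ⟨a.2, h1 ▸ (inv_mem b.2 : (b : G)⁻¹ ∈ F)⟩
    rw [hdis, mem_bot] at h2
    have h3 : (b : G) = 1 := by rw [h2] at h1; exact inv_eq_one.1 h1.symm
    exact Prod.ext (Subtype.ext h2) (Subtype.ext h3)
  have h16 : Nat.card f.range = 16 := by
    rw [← Nat.card_congr (MonoidHom.ofInjective hf).toEquiv, Nat.card_prod, hE.card_four, hF.card_four]
  have := H.elem_le_four f.range fun z hz => by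
    obtain ⟨⟨a, b⟩, rfl⟩ := hz
    have ha : a ^ 2 = 1 := by rw [← hE.exponent_two]; exact Monoid.pow_exponent_eq_one a
    have hb : b ^ 2 = 1 := by rw [← hF.exponent_two]; exact Monoid.pow_exponent_eq_one b
    rw [← map_pow, show ((a, b) : E × F) ^ 2 = 1 from Prod.ext ha hb, map_one]
  omega

theorem simple_min {N : Subgroup G} (hN : Recog.IsMinNormal N) :
    IsSimpleGroup N ∧ (∃ a b : N, a * b ≠ b * a) := by
  haveI := hN.1
  haveI : Nontrivial N := N.nontrivial_iff_ne_bot.2 hN.2.1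
  have hna : ∃ a b : N, a * b ≠ b * a := by
    by_contra! h
    exact hN.2.1 (H.no_abelian_normal N ⟨⟨h⟩⟩)
  refine ⟨⟨fun K hK => ?_⟩, hna⟩
  by_contra! hK2
  obtain ⟨K', hK', hle⟩ := Recog.exists_minNormal_le hK hK2.1
  haveI := hK'.1
  have hK'top : K' ≠ ⊤ := fun e => hK2.2 (top_le_iff.1 (e ▸ hle))
  set M := K'.map N.subtype
  obtain ⟨g, hg⟩ : ∃ g : G, Recog.cj g M ≠ M := by
    by_contra! hall
    haveI : M.Normal := ⟨fun x hx g => by
      have := Recog.conj_mem_cj (g := g) hx
      rwa [hall g] at this⟩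
    rcases hN.2.2 M inferInstance (map_subtype_le _) with h | h
    · exact hK'.2.1 ((map_eq_bot_iff_of_injective _ N.subtype_injective).1 h)
    · exact hK'top (by
        have := congrArg (fun X => X.comap N.subtype) h
        simpa [M, Subgroup.comap_map_eq_self_of_injective N.subtype_injective,
          Subgroup.subgroupOf_self] using this)
  have hMg : Recog.cj g M ≤ N := Recog.cj_le_of_le hN.1 (map_subtype_le _) g
  set L : Subgroup N := (Recog.cj g M).subgroupOf N
  haveI hL : L.Normal := ⟨fun x hx y => by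
    rw [mem_subgroupOf, Recog.mem_cj] at hx ⊢
    obtain ⟨w, hw, e⟩ := hx
    refine ⟨⟨g⁻¹ * y * g, hN.1.conj_mem' _ y.2 g⟩ * w * ⟨g⁻¹ * y * g, hN.1.conj_mem' _ y.2 g⟩⁻¹,
      hK'.1.conj_mem w hw _, ?_⟩
    show (g⁻¹ * y * g) * (w : G) * (g⁻¹ * y * g : G)⁻¹ = g⁻¹ * ((y : G) * x * (y : G)⁻¹) * g
    rw [show (w : G) = g⁻¹ * x * g from e]; group⟩
  have hinf : K' ⊓ L = ⊥ := by
    refine (hK'.2.2 (K' ⊓ L) inferInstance inf_le_left).resolve_right fun h => hg ?_
    have hle2 : M ≤ Recog.cj g M := by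
      rintro _ ⟨w, hw, rfl⟩
      exact (inf_eq_left.1 h) hw
    refine (Subgroup.eq_of_le_of_card_ge hle2 ?_).symm
    exact le_of_eq (Nat.card_congr ((MulAut.conj g).toEquiv.subtypeEquiv fun x => by
      show x ∈ M ↔ g * x * g⁻¹ ∈ Recog.cj g M
      rw [Recog.mem_cj]; simp [mul_assoc])).symm
  have hcomm : ∀ a ∈ K', ∀ b ∈ L, a * b = b * a := fun a ha b hb =>
    (Subgroup.commute_of_normal_of_disjoint K' L inferInstance inferInstance
      (disjoint_iff.2 hinf) a b ha hb).eq
  have hLne : L ≠ ⊥ := fun h => hK'.2.1 (eq_bot_iff.2 fun w hw => mem_bot.2 (by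
    have h1 : (⟨g * w * g⁻¹, hMg (Recog.conj_mem_cj ⟨w, hw, rfl⟩)⟩ : N) ∈ L :=
      mem_subgroupOf.2 (Recog.conj_mem_cj ⟨w, hw, rfl⟩)
    rw [h, mem_bot] at h1
    exact Subtype.ext (conj_eq_one_iff.1 (congrArg Subtype.val h1))))
  obtain ⟨E, hE, hEK⟩ := H.klein_sub hK'.2.1
  obtain ⟨E₂, hE₂, hEL⟩ := H.klein_sub hLne
  refine H.no_klein_pair hE hE₂ ?_ fun a ha b hb => ?_
  · refine le_bot_iff.1 ((inf_le_inf hEK hEL).trans ?_)
    rw [← Subgroup.map_inf _ _ _ N.subtype_injective, hinf, Subgroup.map_bot]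
  · obtain ⟨a', ha', rfl⟩ := hEK ha
    obtain ⟨b', hb', rfl⟩ := hEL hb
    exact congrArg Subtype.val (hcomm a' ha' b' hb')

/-- The group is a projective special linear group of the same order. -/
theorem exists_psl : ∃ (K : Type) (_ : Field K) (_ : Fintype K), Fintype.card K = q ∧
    Nonempty (G ≃* Matrix.ProjectiveSpecialLinearGroup (Fin 2) K) := by
  classical
  haveI : Fact (Nat.Prime 2) := ⟨Nat.prime_two⟩
  haveI : Nontrivial G := Finite.one_lt_card_iff_nontrivial.1 (by
    rw [H.card]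
    have h2 : 2 ≤ 2 * m * n := le_trans (by have := H.m_pos; omega : 2 ≤ 2 * m)
      (Nat.le_mul_of_pos_right _ (by have := H.n2; omega))
    have h3 : 5 * 2 ≤ q * (2 * m * n) := Nat.mul_le_mul H.q5 h2
    omega)
  obtain ⟨N, hN⟩ := Recog.exists_minNormal (G := G)
  haveI := hN.1
  obtain ⟨hs, hna⟩ := H.simple_min hN
  obtain ⟨Y, t, hY, hYc, htY, ht, hsmall, hC⟩ := H.exists_y
  set C := centralizer ({t} : Set G) with hCdef
  haveI : Nontrivial N := N.nontrivial_iff_ne_bot.2 hN.2.1
  obtain ⟨E, hE, hEN⟩ := H.klein_sub (N := N) (K := ⊤) top_ne_bot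
  have hEN' : E ≤ N := hEN.trans (map_subtype_le _)
  obtain ⟨R⟩ := (inferInstance : Nonempty (Sylow 2 C))
  have hcopG : (Nat.card C).Coprime C.index := by
    have h1 := C.card_mul_index
    rw [H.card, hC, show q * (2 * m * n) = 2 * m * (q * n) by ring] at h1
    rw [hC, Nat.eq_of_mul_eq_mul_left (by have := H.m_pos; omega) h1]
    obtain ⟨a, -, hq⟩ := H.qp
    refine Nat.Coprime.mul_right ?_ (Nat.Coprime.mul_left (Nat.coprime_two_left.2 H.nodd) H.cop)
    rw [hq]
    refine Nat.Coprime.pow_right _ (Nat.Coprime.symm (H.pp.coprime_iff_not_dvd.2 fun h => ?_))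
    rcases (Nat.Prime.dvd_mul H.pp).1 h with h | h
    exacts [H.p2 ((Nat.prime_dvd_prime_iff_eq H.pp Nat.prime_two).1 h), H.pm h]
  have htC : t ∈ C := mem_centralizer_singleton_iff.2 rfl
  have hR : ¬ 2 ∣ ((R : Subgroup C).map C.subtype).index := by
    rw [index_map_subtype, Nat.prime_two.dvd_mul]
    exact not_or.2 ⟨R.not_dvd_index, fun h2 => Nat.not_coprime_of_dvd_of_dvd one_lt_two
      (ht ▸ orderOf_dvd_natCard C htC) h2 hcopG⟩
  -- the involution lies in the simple subgroup
  have htN : t ∈ N := by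
    obtain ⟨a, ha, b, hb, ha2, hb2, hne, hcomm, haN, hbN⟩ : ∃ a ∈ C, ∃ b ∈ C, orderOf a = 2 ∧
        orderOf b = 2 ∧ a ≠ b ∧ Commute a b ∧ a ∈ N ∧ b ∈ N := by
      have hEp : IsPGroup 2 E := IsPGroup.of_card (n := 2) (by rw [hE.card_four]; norm_num)
      obtain ⟨Q, hEQ⟩ := hEp.exists_le_sylow
      obtain ⟨g, hg⟩ := MulAction.exists_smul_eq G Q (IsPGroup.toSylow (R.2.map C.subtype) hR)
      have hmem : ∀ e : E, g * (e : G) * g⁻¹ ∈ C ∧ g * (e : G) * g⁻¹ ∈ N := fun e => by
        refine ⟨map_subtype_le _ (?_ : g * (e : G) * g⁻¹ ∈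
          ((IsPGroup.toSylow (R.2.map C.subtype) hR : Sylow 2 G) : Subgroup G)),
          hN.1.conj_mem _ (hEN' e.2) g⟩
        rw [← hg, Sylow.coe_subgroup_smul]
        exact Subgroup.smul_mem_pointwise_smul (e : G) (MulAut.conj g) _ (hEQ e.2)
      have hsq : ∀ e : E, e ^ 2 = 1 := fun e => by
        rw [← hE.exponent_two]; exact Monoid.pow_exponent_eq_one e
      have hord : ∀ e : E, e ≠ 1 → orderOf (g * (e : G) * g⁻¹) = 2 := fun e he => by
        rw [← MulAut.conj_apply, MulEquiv.orderOf_eq, Subgroup.orderOf_coe]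
        exact orderOf_eq_prime (hsq e) he
      have hcc : ∀ e e' : E, e * e' = e' * e := fun e e' =>
        mul_comm_of_exponent_two hE.exponent_two e e'
      haveI := Fintype.ofFinite E
      have h4 : (Finset.univ : Finset E).card = 4 := by
        rw [Finset.card_univ, ← Nat.card_eq_fintype_card, hE.card_four]
      obtain ⟨a, -, ha⟩ := Finset.exists_mem_ne (s := (Finset.univ : Finset E)) (by omega) 1
      obtain ⟨b, -, hb⟩ := Finset.exists_mem_notMem_of_card_lt_card (s := ({1, a} : Finset E))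
        (t := (Finset.univ : Finset E)) (Finset.card_le_two.trans_lt (by omega))
      simp only [Finset.mem_insert, Finset.mem_singleton, not_or] at hb
      refine ⟨_, (hmem a).1, _, (hmem b).1, hord a ha, hord b hb.1, fun h =>
        hb.2 (Subtype.ext (mul_left_cancel (mul_right_cancel h)).symm), ?_, (hmem a).2, (hmem b).2⟩
      exact Commute.map (f := (MulAut.conj g).toMonoidHom)
        (show Commute (a : G) (b : G) from congrArg Subtype.val (hcc a b))
    by_cases haY : a ∈ Y
    · exact unique_invol hY haY htY ha2 ht ▸ haN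
    by_cases hbY : b ∈ Y
    · exact unique_invol hY hbY htY hb2 ht ▸ hbN
    have hidx : Y.relIndex C = 2 :=
      ((Nat.dvd_prime Nat.prime_two).1
        (hsmall t htY (fun e => by rw [e, orderOf_one] at ht; omega))).resolve_left
        fun h => haY (relIndex_eq_one.1 h ha)
    have hprod : a * b ∈ Y := by
      have h := Subgroup.mul_mem_iff_of_index_two hidx (a := ⟨a, ha⟩) (b := ⟨b, hb⟩)
      simp only [mem_subgroupOf, Subgroup.coe_mul] at h
      exact h.2 (iff_of_false haY hbY)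
    have ha' : a ^ 2 = 1 := by rw [← ha2, pow_orderOf_eq_one]
    have hb' : b ^ 2 = 1 := by rw [← hb2, pow_orderOf_eq_one]
    have hord2 : orderOf (a * b) = 2 := by
      refine orderOf_eq_prime (by rw [hcomm.mul_pow, ha', hb', one_mul]) fun h => hne ?_
      rw [mul_eq_one_iff_eq_inv.1 h, inv_eq_of_mul_eq_one_right (by rw [← pow_two, hb'])]
    exact unique_invol hY hprod htY hord2 ht ▸ mul_mem haN hbN
  -- the data for the simple subgroup
  have hcent : ∀ b : N, centralizer ({b} : Set N) =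
      (centralizer ({(b : G)} : Set G)).subgroupOf N := fun b => by
    ext x
    simp [mem_centralizer_singleton_iff, mem_subgroupOf, Subtype.ext_iff]
  have hBc : IsCyclic (Y.subgroupOf N) := by
    haveI : IsCyclic Y := hY
    haveI : IsCyclic ((Y.subgroupOf N).map N.subtype) := Subgroup.isCyclic_of_le
      (show (Y.subgroupOf N).map N.subtype ≤ Y from map_comap_le _ _)
    exact ((Y.subgroupOf N).equivMapOfInjective _ N.subtype_injective).isCyclic.2 inferInstance
  let D : Data N :=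
    { B := Y.subgroupOf N
      t := ⟨t, htN⟩
      cyc := hBc
      t_mem := mem_subgroupOf.2 htY
      t_ord := by rw [Subgroup.orderOf_mk]; exact ht
      small := fun b hb hb1 => by
        have hb1' : (b : G) ≠ 1 := fun e => hb1 (Subtype.ext e)
        have h1 := hsmall b (mem_subgroupOf.1 hb) hb1'
        have hle : ((centralizer ({b} : Set N)).map N.subtype) ≤ centralizer ({(b : G)} : Set G) := by
          rw [hcent]; exact map_comap_le _ _
        rw [Subgroup.subgroupOf, relIndex_comap]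
        have h2 := Subgroup.relIndex_le_of_le_right hle (H := Y)
          (fun h0 => by rw [h0] at h1; simp at h1)
        have h3 : Y.relIndex ((centralizer ({b} : Set N)).map N.subtype) ≠ 0 :=
          Subgroup.index_ne_zero_of_finite
        have h4 := h2.trans (Nat.le_of_dvd two_pos h1)
        generalize Y.relIndex ((centralizer ({b} : Set N)).map N.subtype) = z at h3 h4
        interval_cases z <;> simp_all
      cop := by
        rw [hcent]
        refine (hcopG.coprime_dvd_left ?_).coprime_dvd_right ?_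
        · rw [← Subgroup.card_map_of_injective N.subtype_injective]
          exact card_dvd_of_le (map_comap_le _ _)
        · change C.relIndex N ∣ C.index
          rw [← relIndex_sup_normal]
          exact relIndex_dvd_index_of_le le_sup_left
      klein := ⟨E.subgroupOf N, by
        have e := (Subgroup.subgroupOfEquivOfLe hEN').symm
        exact ⟨by rw [← Nat.card_congr e.toEquiv, hE.card_four],
          by rw [← Monoid.exponent_eq_of_mulEquiv e, hE.exponent_two]⟩⟩ }
  obtain ⟨K, fK, iK, hKodd, ⟨iso⟩⟩ := D.exists_psl hs hna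
  obtain ⟨S₂, hSC₂, htS₂⟩ := D.exists_sylow
  -- the index divides the order of the centraliser
  have hidx : N.index ∣ 2 * m := by
    have hgen : C ⊔ N = ⊤ := by
      refine eq_top_iff.2 fun g _ => ?_
      obtain ⟨v, hv⟩ := D.conj_t hs hna hSC₂ htS₂ (x := ⟨g * t * g⁻¹, hN.1.conj_mem t htN g⟩) (by
        rw [Subgroup.orderOf_mk, ← MulAut.conj_apply, MulEquiv.orderOf_eq, ht])
      have hvC : (v : G) * g ∈ C := by
        have h := congrArg Subtype.val hv
        change (v : G) * (g * t * g⁻¹) * (v : G)⁻¹ = t at h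
        rw [hCdef, mem_centralizer_singleton_iff, ← mul_inv_eq_iff_eq_mul]
        exact (show (v : G) * g * t * ((v : G) * g)⁻¹ = (v : G) * (g * t * g⁻¹) * (v : G)⁻¹ by
          group).trans h
      rw [show g = (v : G)⁻¹ * ((v : G) * g) by group]
      exact mul_mem (mem_sup_right (inv_mem v.2)) (mem_sup_left hvC)
    rw [← hC, ← relIndex_top_right, ← hgen, relIndex_sup_right]
    exact relIndex_dvd_card _ _
  have hm0 := H.m_pos
  have hn2 := H.n2
  have hq5 := H.q5
  have hsum := H.sum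
  have hnear := H.near
  obtain ⟨a, ha, hqa⟩ := H.qp
  have hqn : q * n ∣ Nat.card N := by
    obtain ⟨c, hc⟩ := hidx
    refine ⟨c, ?_⟩
    have h1 := N.card_mul_index
    rw [H.card, show q * (2 * m * n) = q * n * (2 * m) by ring, hc] at h1
    have hi : N.index ≠ 0 := index_ne_zero_of_finite
    exact Nat.eq_of_mul_eq_mul_right (Nat.pos_of_ne_zero hi) (h1.trans (by ring))
  -- the order and the element orders of the subgroup
  obtain ⟨r, hcr⟩ := CharP.exists K
  obtain ⟨⟨b, hb⟩, hrp, hKb⟩ := FiniteField.card K r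
  haveI := Fact.mk hrp
  obtain ⟨e, hKe⟩ := id hKodd
  have hK4 : 4 ≤ Fintype.card K := by
    obtain ⟨u, v, huv⟩ := hna
    by_contra h4
    have hcl : Fintype.card K ≤ 3 := by omega
    have h1 : 2 * Nat.card N = Fintype.card K * (Fintype.card K ^ 2 - 1) := by
      rw [Nat.card_congr iso.toEquiv]
      exact Classical.two_mul_card_PSL_two_of_odd hKodd
    have h2 : Nat.card N ≤ 12 := by
      generalize Fintype.card K = z at hcl h1
      interval_cases z <;> omega
    have h3 := Nat.le_of_dvd Nat.card_pos hqn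
    have h4' : 15 ≤ q * n := by
      have : 3 ≤ n := by
        obtain ⟨c, hc⟩ := H.nodd
        omega
      exact Nat.mul_le_mul hq5 this
    omega
  have hcardN : Nat.card N = Fintype.card K * (2 * e * (e + 1)) := by
    have h1 : 2 * Nat.card N = Fintype.card K * (Fintype.card K ^ 2 - 1) := by
      rw [Nat.card_congr iso.toEquiv]
      exact Classical.two_mul_card_PSL_two_of_odd hKodd
    have h2 : Fintype.card K ^ 2 - 1 = 2 * (2 * e * (e + 1)) := by
      rw [hKe, show (2 * e + 1) ^ 2 = 2 * (2 * e * (e + 1)) + 1 by ring, Nat.add_sub_cancel]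
    rw [h2, mul_left_comm] at h1
    exact Nat.eq_of_mul_eq_mul_left two_pos h1
  have hgcd : Nat.gcd 2 (Fintype.card K - 1) = 2 :=
    Nat.gcd_eq_left (by rw [hKe]; exact ⟨e, by omega⟩)
  have horders : ∀ k : ℕ, k ∣ r ∨ k ∣ e ∨ k ∣ e + 1 → k ∣ p ∨ k ∣ m ∨ k ∣ n := by
    intro k hk
    have hmem : k ∈ Set.range (orderOf : Matrix.ProjectiveSpecialLinearGroup (Fin 2) K → ℕ) := by
      rw [S2475.result r hK4, hgcd, hKe, show (2 * e + 1 - 1) / 2 = e by omega,
        show (2 * e + 1 + 1) / 2 = e + 1 by omega]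
      exact hk
    obtain ⟨z, hz⟩ := hmem
    have h := H.ord ((iso.symm z : N) : G)
    rwa [Subgroup.orderOf_coe, MulEquiv.orderOf_eq, hz] at h
  have he2 : 2 ≤ e := by omega
  rcases eq_or_ne r p with rfl | hne
  · have hqK : q = Fintype.card K := by
      refine Nat.dvd_antisymm ?_ ?_
      · refine Nat.Coprime.dvd_of_dvd_mul_right ?_ (hcardN ▸ (dvd_mul_right q n).trans hqn)
        rw [hqa]
        refine Nat.Coprime.pow_left _ (hrp.coprime_iff_not_dvd.2 fun h => ?_)
        have hrK : r ∣ Fintype.card K := hKb ▸ dvd_pow_self r hb.ne'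
        rw [hKe] at hrK
        rcases (Nat.Prime.dvd_mul hrp).1 h with h | h
        · exact hrp.one_lt.ne' (Nat.dvd_one.1 ((Nat.dvd_add_right h).1 hrK))
        · refine hrp.one_lt.ne' (Nat.dvd_one.1 ((Nat.dvd_add_right hrK).1 ?_))
          rw [show 2 * e + 1 + 1 = (e + 1) * 2 by ring]
          exact h.mul_right 2
      · have h1 : Fintype.card K ∣ Nat.card G :=
          (hcardN ▸ dvd_mul_right _ _).trans (card_subgroup_dvd_card N)
        rw [H.card] at h1
        refine Nat.Coprime.dvd_of_dvd_mul_right ?_ h1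
        rw [hKb]
        refine Nat.Coprime.pow_left _ (hrp.coprime_iff_not_dvd.2 fun h => ?_)
        rcases (Nat.Prime.dvd_mul hrp).1 h with h | h
        · rcases (Nat.Prime.dvd_mul hrp).1 h with h | h
          exacts [H.p2 ((Nat.prime_dvd_prime_iff_eq hrp Nat.prime_two).1 h), H.pm h]
        · exact H.pn h
    have hmn : m = e ∧ n = e + 1 ∨ m = e + 1 ∧ n = e := by omega
    have htop : N = ⊤ := by
      refine Subgroup.eq_top_of_card_eq N ?_
      rw [hcardN, H.card, ← hqK]
      rcases hmn with ⟨rfl, rfl⟩ | ⟨rfl, rfl⟩ <;> ring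
    exact ⟨K, fK, iK, hqK.symm, ⟨(((MulEquiv.subgroupCongr htop).trans Subgroup.topEquiv).symm.trans iso)⟩⟩
  · exfalso
    -- both prime powers are small
    have hnm : 2 * m ≤ q + 1 ∧ 2 * n ≤ q + 1 := by omega
    have hqle : q ≤ e + 1 := by
      have hd : q ∣ (2 * e * (e + 1)) := by
        refine Nat.Coprime.dvd_of_dvd_mul_left ?_ (hcardN ▸ (dvd_mul_right q n).trans hqn)
        rw [hqa, hKb]
        exact Nat.Coprime.pow _ _ ((Nat.coprime_primes H.pp hrp).2 hne.symm)
      obtain ⟨k, hkle, hk, hqk⟩ : ∃ k, k ≤ e + 1 ∧ (k ∣ e ∨ k ∣ e + 1) ∧ k ≠ 0 ∧ q ∣ k := by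
        rw [mul_assoc] at hd
        have hd' := Nat.Coprime.dvd_of_dvd_mul_left (by
          rw [hqa]; exact Nat.Coprime.pow_left _ ((Nat.coprime_primes H.pp Nat.prime_two).2 H.p2)) hd
        by_cases hpe : p ∣ e
        · refine ⟨e, by omega, Or.inl dvd_rfl, by omega, Nat.Coprime.dvd_of_dvd_mul_right ?_ hd'⟩
          rw [hqa]
          exact Nat.Coprime.pow_left _ (H.pp.coprime_iff_not_dvd.2 fun h =>
            H.pp.one_lt.ne' (Nat.dvd_one.1 ((Nat.dvd_add_right hpe).1 h)))
        · refine ⟨e + 1, le_rfl, Or.inr dvd_rfl, by omega, Nat.Coprime.dvd_of_dvd_mul_left ?_ hd'⟩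
          rw [hqa]
          exact Nat.Coprime.pow_left _ (H.pp.coprime_iff_not_dvd.2 hpe)
      obtain ⟨hk0, hqk⟩ := hqk
      have hpk : p ∣ k := (hqa ▸ dvd_pow_self p ha.ne').trans hqk
      rcases horders k (Or.inr hk) with h | h | h
      · exact (Nat.le_of_dvd (by omega) hqk).trans hkle
      · exact absurd (hpk.trans h) H.pm
      · exact absurd (hpk.trans h) H.pn
    have hKle : 2 * Fintype.card K ≤ q + 1 := by
      have h1 : Fintype.card K ∣ q * (2 * (m * n)) := by
        have := (hcardN ▸ dvd_mul_right (Fintype.card K) (2 * e * (e + 1))).trans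
          (card_subgroup_dvd_card N)
        rwa [H.card, mul_assoc 2 m n] at this
      have hr2 : r ≠ 2 := fun h => by
        have : 2 ∣ Fintype.card K := h ▸ hKb ▸ dvd_pow_self r hb.ne'
        omega
      have h2 := Nat.Coprime.dvd_of_dvd_mul_left (by
        rw [hKb, hqa]; exact Nat.Coprime.pow _ _ ((Nat.coprime_primes hrp H.pp).2 hne)) h1
      have h3 := Nat.Coprime.dvd_of_dvd_mul_left (by
        rw [hKb]; exact Nat.Coprime.pow_left _ ((Nat.coprime_primes hrp Nat.prime_two).2 hr2)) h2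
      by_cases hrm : r ∣ m
      · have h4 : Fintype.card K ∣ m := Nat.Coprime.dvd_of_dvd_mul_right (by
          rw [hKb]
          exact Nat.Coprime.pow_left _ (hrp.coprime_iff_not_dvd.2 fun h =>
            hrp.one_lt.ne' (Nat.eq_one_of_dvd_coprimes H.cop hrm h))) h3
        have := Nat.le_of_dvd hm0 h4
        omega
      · have h4 : Fintype.card K ∣ n := Nat.Coprime.dvd_of_dvd_mul_left (by
          rw [hKb]; exact Nat.Coprime.pow_left _ (hrp.coprime_iff_not_dvd.2 hrm)) h3
        have := Nat.le_of_dvd (by omega) h4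
        omega
    omega

end OddHyp

end Cfsg.Agent.Lib.PSLSpec
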